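import Mathlib

/-!
The integer arithmetic behind the degrees of the Suzuki groups.
-/

set_option autoImplicit false

namespace Cfsg.Agent.Block.SzDeg

variable {ι : Type*}

/-- A bound on an integer quadratic. -/
theorem quad_nonneg {n z ε : ℤ} (hn : 2 ≤ n) (hε : ε = 1 ∨ ε = -1) : 0 ≤ n * z ^ 2 - 2 * ε * z := by
  have h1 : 0 ≤ (n - 2) * z ^ 2 := mul_nonneg (by omega) (sq_nonneg z)
  have h2 : 0 ≤ z ^ 2 - z := by
    rcases le_or_gt z 0 with h | h <;> nlinarith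
  have h3 : 0 ≤ z ^ 2 + z := by
    rcases le_or_gt 0 z with h | h <;> nlinarith
  rcases hε with rfl | rfl <;> linarith

theorem quad_small {n z ε : ℤ} (hn : 5 ≤ n) (hε : ε = 1 ∨ ε = -1) (h : n * z ^ 2 - 2 * ε * z ≤ 2) :
    z = 0 := by
  rcases lt_trichotomy z 0 with hz | hz | hz
  · rcases hε with rfl | rfl <;> nlinarith
  · exact hz
  · rcases hε with rfl | rfl <;> nlinarith

theorem quad_three {z ε : ℤ} (hε : ε = 1 ∨ ε = -1) (h : 3 * z ^ 2 - 2 * ε * z ≤ 2) :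
    z = 0 ∨ z = ε := by
  have h1 : z ≤ 1 := by rcases hε with rfl | rfl <;> nlinarith
  have h2 : -1 ≤ z := by rcases hε with rfl | rfl <;> nlinarith
  rcases hε with rfl | rfl <;> interval_cases z <;> simp_all

theorem term_le {W : Finset ι} {f : ι → ℤ} {i : ι} (hi : i ∈ W) :
    f i ^ 2 ≤ ∑ j ∈ W, f j ^ 2 :=
  Finset.single_le_sum (f := fun j => f j ^ 2) (fun j _ => sq_nonneg (f j)) hi

/-- The two characters of degree `(q - 1) r / 2`. -/
theorem rest_large {W : Finset ι} {e v : ι → ℤ} {q r : ℤ} (hr : r ^ 2 = 2 * q) (hr0 : 0 < r)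
    (he : ∀ i ∈ W, 0 < e i) (hv : ∑ i ∈ W, v i ^ 2 = 2) (he2 : ∑ i ∈ W, e i ^ 2 = q)
    (hev : ∑ i ∈ W, e i * v i = r) : W.Nonempty ∧ ∀ i ∈ W, 2 * e i = r := by
  refine ⟨Finset.nonempty_iff_ne_empty.2 fun h => by subst h; simp at hv, fun i hi => ?_⟩
  have h0 : ∑ j ∈ W, (2 * e j - r * v j) ^ 2 = 0 := by
    rw [Finset.sum_congr rfl fun j _ => show (2 * e j - r * v j) ^ 2 =
      4 * e j ^ 2 - 4 * r * (e j * v j) + r ^ 2 * v j ^ 2 by ring, Finset.sum_add_distrib,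
      Finset.sum_sub_distrib, ← Finset.mul_sum, ← Finset.mul_sum, ← Finset.mul_sum, hv, he2, hev]
    linear_combination (-2 : ℤ) * hr
  have h1 := (Finset.sum_eq_zero_iff_of_nonneg fun j _ => sq_nonneg _).1 h0 i hi
  have h2 : 2 * e i = r * v i := sub_eq_zero.1 ((pow_eq_zero_iff two_ne_zero).1 h1)
  have h3 := (term_le (f := v) hi).trans hv.le
  have h4 := he i hi
  have h5 : 0 < v i := pos_of_mul_pos_right (a := r) (by omega) hr0.le
  have h6 : v i = 1 := by nlinarith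
  rw [h2, h6, mul_one]

/-- The remaining characters when the field has eight elements. -/
theorem rest_eight {W : Finset ι} [DecidableEq ι] {e v w : ι → ℤ} {ε z : ℤ} (hε : ε = 1 ∨ ε = -1)
    (he : ∀ i ∈ W, 0 < e i) (h13 : ∀ i ∈ W, v i = 0 → 13 ∣ e i)
    (hv : ∑ i ∈ W, v i ^ 2 = 2 + 2 * ε * z - 3 * z ^ 2) (hw : ∑ i ∈ W, w i ^ 2 = 3)
    (hvw : ∑ i ∈ W, v i * w i = -2) (he2 : ∑ i ∈ W, e i ^ 2 = 177)
    (hev : ∑ i ∈ W, e i * v i = 9 + 5 * ε - 15 * z) (hew : ∑ i ∈ W, e i * w i = 9) :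
    (∃ U ∈ W, e U = 13) ∧ (∃ i ∈ W, e i = 2) ∧ ∀ i ∈ W, e i = 13 ∨ e i = 2 := by
  have hvpos : 0 ≤ ∑ i ∈ W, v i ^ 2 := Finset.sum_nonneg fun i _ => sq_nonneg _
  have hz : z = 0 := by
    rcases quad_three hε (show 3 * z ^ 2 - 2 * ε * z ≤ 2 by linarith) with hz | hz
    · exact hz
    · exfalso
      have h1 : ∑ i ∈ W, v i ^ 2 = 1 := by rw [hv, hz]; rcases hε with rfl | rfl <;> norm_num
      have h2 := Finset.sum_mul_sq_le_sq_mul_sq W v w
      rw [hvw, h1, hw] at h2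
      norm_num at h2
  subst hz
  have h1 : ∑ i ∈ W, (v i + w i) ^ 2 = 1 := by
    rw [Finset.sum_congr rfl fun j _ => show (v j + w j) ^ 2 = v j ^ 2 + 2 * (v j * w j) + w j ^ 2 by ring,
      Finset.sum_add_distrib, Finset.sum_add_distrib, ← Finset.mul_sum, hv, hvw, hw]
    ring
  obtain ⟨U, hU, hU0⟩ : ∃ U ∈ W, v U + w U ≠ 0 := by
    by_contra hcon
    push Not at hcon
    rw [Finset.sum_eq_zero fun i hi => by rw [hcon i hi]; ring] at h1
    norm_num at h1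
  rw [← Finset.add_sum_erase _ _ hU] at h1 hv hw hew hev he2
  have hU1 : 1 ≤ (v U + w U) ^ 2 := by nlinarith [Int.one_le_abs hU0, sq_abs (v U + w U)]
  have hrest : ∀ i ∈ W.erase U, w i = -v i := by
    intro i hi
    have : (v i + w i) ^ 2 ≤ ∑ j ∈ W.erase U, (v j + w j) ^ 2 := term_le (f := fun j => v j + w j) hi
    have h2 : (v i + w i) ^ 2 = 0 := le_antisymm (by linarith) (sq_nonneg _)
    have := (pow_eq_zero_iff two_ne_zero).1 h2
    omega
  rw [Finset.sum_congr rfl fun i hi => by rw [hrest i hi, neg_sq]] at hw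
  rw [Finset.sum_congr rfl fun i hi => by rw [hrest i hi, mul_neg], Finset.sum_neg_distrib] at hew
  have hsq : (w U) ^ 2 = (v U) ^ 2 + 1 := by linarith
  have hwU : w U ≤ 1 ∧ -1 ≤ w U := by
    have : 0 ≤ ∑ i ∈ W.erase U, v i ^ 2 := Finset.sum_nonneg fun i _ => sq_nonneg _
    constructor <;> nlinarith
  have hvU : v U = 0 := by
    have : v U ^ 2 ≤ 0 := by nlinarith [hwU.1, hwU.2]
    exact (pow_eq_zero_iff two_ne_zero).1 (le_antisymm this (sq_nonneg _))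
  rw [hvU] at hv hev hsq
  obtain ⟨k, hk⟩ := h13 U hU hvU
  have heU := he U hU
  rw [hk] at heU hew hev he2
  have hwU' : w U = 1 ∨ w U = -1 := sq_eq_one_iff.1 (by rw [hsq]; ring)
  have hεk : ε = -1 ∧ k = 1 := by
    rcases hwU' with h | h <;> rw [h] at hew <;> rcases hε with rfl | rfl <;> constructor <;> omega
  obtain ⟨rfl, rfl⟩ := hεk
  norm_num at hv hev he2 heU
  have h0 : ∑ i ∈ W.erase U, (e i - 2 * v i) ^ 2 = 0 := by
    rw [Finset.sum_congr rfl fun j _ => show (e j - 2 * v j) ^ 2 =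
      e j ^ 2 - 4 * (e j * v j) + 4 * v j ^ 2 by ring, Finset.sum_add_distrib,
      Finset.sum_sub_distrib, ← Finset.mul_sum, ← Finset.mul_sum]
    linarith
  have hall : ∀ i ∈ W.erase U, e i = 2 := by
    intro i hi
    have h2 := (pow_eq_zero_iff two_ne_zero).1
      ((Finset.sum_eq_zero_iff_of_nonneg fun j _ => sq_nonneg _).1 h0 i hi)
    have h3 := (term_le (f := v) hi).trans_eq hv
    have h4 := he i (Finset.mem_of_mem_erase hi)
    have h5 : v i ≤ 1 := by nlinarith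
    omega
  refine ⟨⟨U, hU, by rw [hk]; norm_num⟩, ?_, fun i hi => ?_⟩
  · obtain ⟨i, hi⟩ : (W.erase U).Nonempty :=
      Finset.nonempty_iff_ne_empty.2 fun h => by rw [h] at hv; simp at hv
    exact ⟨i, Finset.mem_of_mem_erase hi, hall i hi⟩
  · by_cases hiU : i = U
    · exact Or.inl (by rw [hiU, hk]; norm_num)
    · exact Or.inr (hall i (Finset.mem_erase.2 ⟨hiU, hi⟩))

end Cfsg.Agent.Block.SzDeg
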