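import Cfsg.Agent.Lib.Lie.Sz.Classes
import Cfsg.Agent.Lib.Block.SL2Char.Homs
import Cfsg.Agent.Lib.Char.Complete
import Cfsg.Agent.Lib.Char.Induce

/-!
The characters of the Suzuki group induced from linear characters of the point stabiliser.
-/

set_option autoImplicit false

namespace Cfsg.Agent.Block.SzDeg

open scoped ComplexConjugate
open Cfsg Cfsg.Agent.Suz Cfsg.Agent.Char
open Cfsg.Agent.Block.SL2Char (cv cv_mul cv_one cv_inv conj_cv sum_mul_conj_cv)

variable {F : Type*} [Field F] {m : ℕ} [Fintype F] (hS : SzField F m)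

/-- The torus coordinate of an element of the point stabiliser. -/
noncomputable def pr (b : borel m F) : Fˣ := (borel_eq hS b.2).choose_spec.choose_spec.choose

theorem pr_eq {b : borel m F} {a c : F} {z : Fˣ}
    (h : (b : ↥(Cfsg.Sz F m)) = uS hS a c * hTor hS z) : pr hS b = z :=
  (uS_hTor_inj hS ((borel_eq hS b.2).choose_spec.choose_spec.choose_spec.symm.trans h)).2.2

theorem pr_mul (b b' : borel m F) : pr hS (b * b') = pr hS b * pr hS b' := by
  obtain ⟨a, c, z, hb⟩ := borel_eq hS b.2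
  obtain ⟨a', c', z', hb'⟩ := borel_eq hS b'.2
  rw [pr_eq hS hb, pr_eq hS hb']
  have h : ((b * b' : borel m F) : ↥(Cfsg.Sz F m)) =
      uS hS a c * (hTor hS z * uS hS a' c' * (hTor hS z)⁻¹) * (hTor hS z * hTor hS z') := by
    rw [Subgroup.coe_mul, hb, hb']; group
  rw [hTor_conj, uS_mul, hTor_mul] at h
  exact pr_eq hS h

/-- The projection on the torus. -/
noncomputable def prHom : borel m F →* Fˣ := MonoidHom.mk' (pr hS) (pr_mul hS)

/-- The linear character of the point stabiliser belonging to a character of the torus. -/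
noncomputable def lam (l : Fˣ →* ℂˣ) : borel m F → ℂ := fun b => cv l (prHom hS b)

include hS in
theorem one_lt_q : 8 ≤ 2 ^ (2 * m + 1) := hS.card ▸ eight_le hS

theorem pr_hTor (z : Fˣ) : pr hS ⟨hTor hS z, hTor_mem_borel hS z⟩ = z :=
  pr_eq hS (a := 0) (c := 0) (by rw [uS_zero, one_mul])

theorem mem_unip_of_pr {b : borel m F} (h : pr hS b = 1) : (b : ↥(Cfsg.Sz F m)) ∈ unip hS := by
  obtain ⟨a, c, z, hb⟩ := borel_eq hS b.2
  obtain rfl := (pr_eq hS hb).symm.trans h
  exact (mem_unip hS).2 ⟨a, c, by rw [hb, hTor_one, mul_one]⟩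

theorem pr_of_mem_unip {b : borel m F} (h : (b : ↥(Cfsg.Sz F m)) ∈ unip hS) : pr hS b = 1 := by
  obtain ⟨a, c, hb⟩ := (mem_unip hS).1 h
  exact pr_eq hS (a := a) (c := c) (by rw [hb, hTor_one, mul_one])

include hS in
theorem odd_card_units : Odd (Nat.card Fˣ) := by
  rw [Nat.card_units, Nat.card_eq_fintype_card, hS.card]
  exact Nat.Even.sub_odd Nat.one_le_two_pow (Nat.even_pow.2 ⟨even_two, by omega⟩) odd_one

include hS in
theorem unit_eq_one_of_four {z : Fˣ} (h : z ^ 4 = 1) : z = 1 := by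
  refine orderOf_eq_one_iff.1 (Nat.eq_one_of_dvd_coprimes ?_ (orderOf_dvd_of_pow_eq_one h)
    (orderOf_dvd_natCard z))
  rw [show (4 : ℕ) = 2 ^ 2 from rfl]
  exact Nat.Coprime.pow_left 2 (Nat.coprime_two_left.2 (odd_card_units hS))

/-- Off the radical an element of the stabiliser is conjugate by the radical to its torus part. -/
theorem exists_unip_conj {b : borel m F} {w : Fˣ} (hw : pr hS b = w) (h1 : w ≠ 1) :
    ∃ v ∈ unip hS, (b : ↥(Cfsg.Sz F m)) = v * hTor hS w * v⁻¹ := by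
  obtain ⟨a, c, z, hb⟩ := borel_eq hS b.2
  obtain rfl := (pr_eq hS hb).symm.trans hw
  have hmem : ∀ v : unip hS,
      (v : ↥(Cfsg.Sz F m)) * (hTor hS z * (v : ↥(Cfsg.Sz F m))⁻¹ * (hTor hS z)⁻¹) ∈ unip hS :=
    fun v => mul_mem v.2 ((Subgroup.mem_normalizer_iff.1
      (borel_le_normalizer hS (hTor_mem_borel hS z)) _).1 (inv_mem v.2))
  let f : unip hS → unip hS := fun v => ⟨_, hmem v⟩
  have hinj : Function.Injective f := by
    intro v w' h
    have h' : (v : ↥(Cfsg.Sz F m)) * (hTor hS z * (v : ↥(Cfsg.Sz F m))⁻¹ * (hTor hS z)⁻¹) =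
        (w' : ↥(Cfsg.Sz F m)) * (hTor hS z * (w' : ↥(Cfsg.Sz F m))⁻¹ * (hTor hS z)⁻¹) :=
      congrArg Subtype.val h
    have hx : (w' : ↥(Cfsg.Sz F m))⁻¹ * v ∈
        Subgroup.centralizer ({hTor hS z} : Set ↥(Cfsg.Sz F m)) := by
      rw [Subgroup.mem_centralizer_singleton_iff]
      simp only [← mul_assoc, mul_left_inj] at h'
      calc (w' : ↥(Cfsg.Sz F m))⁻¹ * v * hTor hS z
          = (w' : ↥(Cfsg.Sz F m))⁻¹ * ((v : ↥(Cfsg.Sz F m)) * hTor hS z * (v : ↥(Cfsg.Sz F m))⁻¹) * v := by group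
        _ = (w' : ↥(Cfsg.Sz F m))⁻¹ * ((w' : ↥(Cfsg.Sz F m)) * hTor hS z * (w' : ↥(Cfsg.Sz F m))⁻¹) * v := by rw [h']
        _ = _ := by group
    rw [centralizer_torus hS h1] at hx
    obtain ⟨z', hz'⟩ := mem_torus hS hx
    have h4 := congrArg (· ^ 4) hz'
    rw [pow_four_unip hS (mul_mem (inv_mem w'.2) v.2), show hTor hS z' = torHom hS z' from rfl,
      ← map_pow] at h4
    have h5 : z' ^ 4 = 1 := hTor_injective hS (h4.symm.trans (hTor_one hS).symm)
    rw [unit_eq_one_of_four hS h5, hTor_one] at hz'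
    exact Subtype.ext (inv_mul_eq_one.1 hz').symm
  obtain ⟨v, hv⟩ := Finite.surjective_of_injective hinj ⟨uS hS a c, uS_mem hS a c⟩
  refine ⟨v, v.2, ?_⟩
  rw [hb, ← show (v : ↥(Cfsg.Sz F m)) *
      (hTor hS z * (v : ↥(Cfsg.Sz F m))⁻¹ * (hTor hS z)⁻¹) = uS hS a c from congrArg Subtype.val hv]
  group

/-- The parametrisation of the stabiliser. -/
noncomputable def bEquiv : (F × F) × Fˣ ≃ borel m F :=
  Equiv.ofBijective (fun p => ⟨uS hS p.1.1 p.1.2 * hTor hS p.2,
    mul_mem (uS_mem_borel hS _ _) (hTor_mem_borel hS _)⟩) (by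
    refine ⟨fun p q h => ?_, fun g => ?_⟩
    · obtain ⟨h1, h2, h3⟩ := uS_hTor_inj hS (congrArg Subtype.val h)
      exact Prod.ext (Prod.ext h1 h2) h3
    · obtain ⟨a, b, z, hg⟩ := borel_eq hS g.2
      exact ⟨((a, b), z), Subtype.ext hg.symm⟩)

theorem pr_bEquiv (p : (F × F) × Fˣ) : pr hS (bEquiv hS p) = p.2 := pr_eq hS rfl

section

variable [Fintype ↥(Cfsg.Sz F m)] [DecidableEq F]

/-- The induced character. -/
noncomputable def psi (l : Fˣ →* ℂˣ) : ↥(Cfsg.Sz F m) → ℂ := indFun (borel m F) (lam hS l)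

theorem isCharacter_psi (l : Fˣ →* ℂˣ) : IsCharacter ↥(Cfsg.Sz F m) (psi hS l) :=
  isCharacter_indFun _ (IsIrr.isCharacter (isIrr_linear (l.comp (prHom hS))))

theorem psi_classFun (l : Fˣ →* ℂˣ) : IsClassFunction ↥(Cfsg.Sz F m) (psi hS l) :=
  indFun_classFun _ _

theorem psi_one (l : Fˣ →* ℂˣ) : psi hS l 1 = ((2 ^ (2 * m + 1)) ^ 2 + 1 : ℕ) := by
  rw [psi, indFun_one_eq, index_borel hS, lam, map_one, cv_one, mul_one]

theorem psi_FPF (l : Fˣ →* ℂˣ) {g : ↥(Cfsg.Sz F m)} (hg : FPF m g) : psi hS l g = 0 := by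
  refine indFun_eq_zero_of_not_conj _ _ fun x hx => absurd hx fun h => ?_
  have h' := FPF.conj hS hg x⁻¹
  rw [inv_inv] at h'
  exact h' none h

theorem psi_unip (l : Fˣ →* ℂˣ) {u : ↥(Cfsg.Sz F m)} (hu : u ∈ unip hS) (hu1 : u ≠ 1) :
    psi hS l u = 1 := by
  classical
  have hterm : ∀ x : ↥(Cfsg.Sz F m), extendByZero (borel m F) (lam hS l) (x⁻¹ * u * x) =
      if x ∈ borel m F then 1 else 0 := by
    intro x
    split_ifs with hx
    · have hxu : x⁻¹ * u * x ∈ unip hS := by
        have := (Subgroup.mem_normalizer_iff.1 (borel_le_normalizer hS (inv_mem hx)) u).1 hu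
        simpa using this
      rw [extendByZero_of_mem _ (unip_le_borel hS hxu)]
      show cv l (pr hS _) = 1
      rw [pr_of_mem_unip hS (b := ⟨_, unip_le_borel hS hxu⟩) hxu, cv_one]
    · refine extendByZero_not_mem _ fun hb => hx ?_
      have h4 : (⟨x⁻¹ * u * x, hb⟩ : borel m F) ^ 4 = 1 := Subtype.ext (by
        rw [SubmonoidClass.coe_pow]
        show (x⁻¹ * u * x) ^ 4 = 1
        calc (x⁻¹ * u * x) ^ 4 = x⁻¹ * u ^ 4 * x := by simpa using (conj_pow (a := x⁻¹) (b := u) (i := 4))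
          _ = 1 := by rw [pow_four_unip hS hu]; group)
      have h5 := congrArg (prHom hS) h4
      rw [map_pow, map_one] at h5
      have hxu := mem_unip_of_pr hS (unit_eq_one_of_four hS h5)
      have := mem_borel_of_conj_mem hS hu hu1 (g := x⁻¹) (by simpa using hxu)
      simpa using inv_mem this
  rw [psi, indFun, Finset.sum_congr rfl fun x _ => hterm x, Finset.sum_boole]
  rw [show (Finset.univ.filter fun x : ↥(Cfsg.Sz F m) => x ∈ borel m F).card = Nat.card (borel m F)
    from (Nat.subtype_card _ fun x => by simp).symm]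
  exact inv_mul_cancel₀ (Nat.cast_ne_zero.2 Nat.card_pos.ne')

theorem psi_hTor (l : Fˣ →* ℂˣ) {z : Fˣ} (hz : z ≠ 1) :
    psi hS l (hTor hS z) = cv l z + cv l z⁻¹ := by
  classical
  have hw : wS hS ∉ borel m F := fun h => Option.some_ne_none ((0 : F), (0 : F))
    (pt_injective (m := m) ((wS_inf hS).symm.trans h))
  have hwi : (wS hS)⁻¹ = wS hS := inv_eq_of_mul_eq_one_right (wS_sq hS)
  have hterm : ∀ x : ↥(Cfsg.Sz F m), extendByZero (borel m F) (lam hS l) (x⁻¹ * hTor hS z * x) =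
      (if x ∈ borel m F then cv l z else 0) + (if wS hS * x ∈ borel m F then cv l z⁻¹ else 0) := by
    intro x
    by_cases hx : x ∈ borel m F
    · have hwx : wS hS * x ∉ borel m F := fun h => hw (by simpa using mul_mem h (inv_mem hx))
      have hm : x⁻¹ * hTor hS z * x ∈ borel m F :=
        mul_mem (mul_mem (inv_mem hx) (hTor_mem_borel hS z)) hx
      rw [if_pos hx, if_neg hwx, add_zero, extendByZero_of_mem _ hm]
      show cv l (prHom hS _) = _
      rw [show (⟨x⁻¹ * hTor hS z * x, hm⟩ : borel m F) =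
        (⟨x, hx⟩ : borel m F)⁻¹ * ⟨hTor hS z, hTor_mem_borel hS z⟩ * ⟨x, hx⟩ from rfl,
        map_mul, map_mul, map_inv, mul_comm (_⁻¹), mul_assoc, inv_mul_cancel, mul_one]
      exact congrArg (cv l) (pr_hTor hS z)
    rw [if_neg hx, zero_add]
    by_cases hwx : wS hS * x ∈ borel m F
    · have e : x⁻¹ * hTor hS z * x = (wS hS * x)⁻¹ * hTor hS z⁻¹ * (wS hS * x) := by
        have h2 : hTor hS z⁻¹ = wS hS * hTor hS z * (wS hS)⁻¹ := by
          rw [wS_hTor, mul_inv_cancel_right]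
        rw [h2]; group
      have hm : (wS hS * x)⁻¹ * hTor hS z⁻¹ * (wS hS * x) ∈ borel m F :=
        mul_mem (mul_mem (inv_mem hwx) (hTor_mem_borel hS _)) hwx
      rw [if_pos hwx, e, extendByZero_of_mem _ hm]
      show cv l (prHom hS _) = _
      rw [show (⟨(wS hS * x)⁻¹ * hTor hS z⁻¹ * (wS hS * x), hm⟩ : borel m F) =
        (⟨_, hwx⟩ : borel m F)⁻¹ * ⟨hTor hS z⁻¹, hTor_mem_borel hS _⟩ * ⟨_, hwx⟩ from rfl,
        map_mul, map_mul, map_inv, mul_comm (_⁻¹), mul_assoc, inv_mul_cancel, mul_one]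
      exact congrArg (cv l) (pr_hTor hS z⁻¹)
    rw [if_neg hwx]
    refine extendByZero_not_mem _ fun hb => ?_
    obtain ⟨o, ho⟩ := exists_pt_smul hS x none
    have hfix : hTor hS z • pt m o = pt m o := by
      have h1 : (x⁻¹ * hTor hS z * x) • pt m (none : Option (F × F)) = pt m none := hb
      rw [mul_smul, ho, mul_smul, inv_smul_eq_iff, ho] at h1
      exact h1
    rcases eq_one_or_of_fix hS hz hfix with rfl | rfl
    · exact hx ho
    · refine hwx ?_
      show (wS hS * x) • pt m none = pt m none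
      rw [mul_smul, ho, wS_zero]
      rfl
  rw [psi, indFun, Finset.sum_congr rfl fun x _ => hterm x, Finset.sum_add_distrib,
    ← Finset.sum_filter, ← Finset.sum_filter, Finset.sum_const, Finset.sum_const,
    show (Finset.univ.filter fun x : ↥(Cfsg.Sz F m) => x ∈ borel m F).card = Nat.card (borel m F)
      from (Nat.subtype_card _ fun x => by simp).symm,
    show (Finset.univ.filter fun x : ↥(Cfsg.Sz F m) => wS hS * x ∈ borel m F).card =
      Nat.card (borel m F) from by
        rw [← Nat.subtype_card _ (fun x => by simp :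
          ∀ x, x ∈ Finset.univ.filter (fun x : ↥(Cfsg.Sz F m) => wS hS * x ∈ borel m F) ↔
            wS hS * x ∈ borel m F)]
        exact Nat.card_congr ((Equiv.mulLeft (wS hS)).subtypeEquiv fun _ => Iff.rfl),
    nsmul_eq_mul, nsmul_eq_mul, ← mul_add, ← mul_assoc,
    inv_mul_cancel₀ (Nat.cast_ne_zero.2 Nat.card_pos.ne'), one_mul]

open Classical in
/-- The restriction to the stabiliser. -/
theorem psi_res (l : Fˣ →* ℂˣ) (b : borel m F) :
    psi hS l b = cv l (pr hS b) + cv l (pr hS b)⁻¹ -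
      (if pr hS b = 1 then 1 else 0) + (if b = 1 then ((2 ^ (2 * m + 1)) ^ 2 : ℕ) else 0) := by
  by_cases hp : pr hS b = 1
  · rw [if_pos hp, hp, inv_one, cv_one]
    by_cases hb : b = 1
    · subst hb
      rw [if_pos rfl, Subgroup.coe_one, psi_one]
      push_cast; ring
    · rw [if_neg hb, psi_unip hS l (mem_unip_of_pr hS hp) fun e => hb (Subtype.ext e)]
      ring
  · rw [if_neg hp, if_neg fun e : b = 1 => hp (by subst e; exact map_one (prHom hS))]
    obtain ⟨v, -, hv⟩ := exists_unip_conj hS (b := b) rfl hp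
    rw [hv, psi_classFun hS l (hTor hS (pr hS b)) v, psi_hTor hS l hp]
    ring

open Classical in
theorem psi_inner (l k : Fˣ →* ℂˣ) :
    classInner (psi hS l) (psi hS k) = (if l = k then 1 else 0) + (if l = k⁻¹ then 1 else 0) := by
  letI : Fintype (borel m F) := Fintype.ofFinite _
  rw [psi, classInner_indFun _ _ (psi_classFun hS k), classInner]
  set Q : ℕ := (2 ^ (2 * m + 1)) ^ 2 with hQ
  have hterm : ∀ b : borel m F, lam hS l b * conj (psi hS k b) =
      (cv l (pr hS b) * conj (cv k (pr hS b)) + cv l (pr hS b) * conj (cv k⁻¹ (pr hS b))) +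
        ((if b = 1 then (Q : ℂ) else 0) - (if pr hS b = 1 then 1 else 0)) := by
    intro b
    rw [psi_res hS k b]
    show cv l (pr hS b) * _ = _
    rw [map_add, map_sub, map_add,
      show cv k⁻¹ (pr hS b) = cv k (pr hS b)⁻¹ from by rw [cv, cv, MonoidHom.inv_apply, map_inv]]
    by_cases hb : b = 1
    · subst hb
      rw [show pr hS (1 : borel m F) = 1 from map_one (prHom hS)]
      simp only [if_pos, inv_one, cv_one, map_one, map_natCast, ← hQ]
      ring
    · rw [if_neg hb, if_neg hb, Nat.cast_zero, map_zero]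
      by_cases hp : pr hS b = 1
      · rw [hp]; simp only [if_pos, inv_one, cv_one, map_one]; ring
      · rw [if_neg hp, map_zero]; ring
  have hsum : ∀ g : Fˣ → ℂ, ∑ b : borel m F, g (pr hS b) = (Q : ℂ) * ∑ z : Fˣ, g z := by
    intro g
    rw [← Equiv.sum_comp (bEquiv hS) (fun b => g (pr hS b)), Fintype.sum_prod_type]
    simp only [pr_bEquiv]
    rw [Finset.sum_const, Finset.card_univ, Fintype.card_prod, hS.card, nsmul_eq_mul, hQ, sq]
  rw [Finset.sum_congr rfl fun b _ => hterm b, Finset.sum_add_distrib, Finset.sum_sub_distrib,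
    Finset.sum_ite_eq', if_pos (Finset.mem_univ _),
    hsum fun z => cv l z * conj (cv k z) + cv l z * conj (cv k⁻¹ z),
    hsum fun z => if z = 1 then 1 else 0, Finset.sum_ite_eq', if_pos (Finset.mem_univ _), mul_one,
    sub_self, add_zero, Finset.sum_add_distrib, sum_mul_conj_cv, sum_mul_conj_cv, card_borel hS,
    ← hQ, ← Nat.card_eq_fintype_card, Nat.card_units, Nat.card_eq_fintype_card, hS.card, Nat.cast_mul]
  have h1 : (Q : ℂ) ≠ 0 := Nat.cast_ne_zero.2 (by rw [hQ]; positivity)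
  have h2 : ((2 ^ (2 * m + 1) - 1 : ℕ) : ℂ) ≠ 0 := Nat.cast_ne_zero.2 (by
    have := one_lt_q hS; omega)
  split_ifs <;> field_simp <;> ring

theorem psi_inner_one (l : Fˣ →* ℂˣ) :
    classInner (fun _ : ↥(Cfsg.Sz F m) => (1 : ℂ)) (psi hS l) =
      (open Classical in if l = 1 then 1 else 0) := by
  classical
  letI : Fintype (borel m F) := Fintype.ofFinite _
  rw [psi, classInner_indFun_right _ _ (fun _ _ => rfl), classInner]
  simp only [one_mul]
  rw [← map_sum]
  show _ * conj (∑ b : borel m F, cv l (pr hS b)) = _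
  rw [← Equiv.sum_comp (bEquiv hS) (fun b => cv l (pr hS b)), Fintype.sum_prod_type]
  simp only [pr_bEquiv]
  rw [Finset.sum_const, Finset.card_univ, Fintype.card_prod, hS.card, nsmul_eq_mul, card_borel hS]
  have h1 : ((2 : ℂ) ^ (2 * m + 1)) ≠ 0 := pow_ne_zero _ two_ne_zero
  have h2 : ((2 ^ (2 * m + 1) - 1 : ℕ) : ℂ) ≠ 0 := Nat.cast_ne_zero.2 (by
    have := one_lt_q hS; omega)
  split_ifs with hl
  · rw [Cfsg.Agent.Block.SL2Char.sum_cv_one hl, Fintype.card_units, hS.card]
    push_cast [map_mul, map_natCast, map_pow, map_ofNat]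
    field_simp
  · rw [Cfsg.Agent.Block.SL2Char.sum_cv_ne hl, mul_zero, map_zero, mul_zero]

end

end Cfsg.Agent.Block.SzDeg
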