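import Cfsg.Agent.Lib.Char.FrobTIAbelian

/-!
Exceptional characters of an abelian TI subgroup with Frobenius normaliser: the sum of the values
and of the squared absolute values at a nontrivial element.
-/

set_option autoImplicit false

namespace Cfsg.Agent.Block.SzDeg

open scoped ComplexConjugate
open Cfsg Cfsg.Agent.Char Cfsg.Agent.Char.FrobTI

universe u

variable {G : Type u} [Group G] [Fintype G] (K : Subgroup G)
  (hTI : ∀ g : G, g ∉ Subgroup.normalizer (K : Set G) → ∀ k ∈ K, g * k * g⁻¹ ∈ K → k = 1)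
  (hlt : K < Subgroup.normalizer (K : Set G))
  (hC : ∀ k ∈ K, k ≠ 1 → Subgroup.centralizer ({k} : Set G) ≤ K)
  (hab : ∀ a ∈ K, ∀ b ∈ K, a * b = b * a)

/-- The values on `K` outside the identity are one integer. -/
def ConstInt (ψ : G → ℂ) : Prop := ∃ v : ℤ, ∀ k ∈ K, k ≠ 1 → ψ k = (v : ℂ)

/-- The conclusions about the exceptional set. -/
structure ExcData (e : ℕ) where
  E : Finset (IrrCharacter G)
  ε : ℤ
  z : ℤ
  sign : ε = 1 ∨ ε = -1
  card : E.card * e + 1 = Nat.card K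
  outside : ∀ ψ ∈ E, ∀ φ ∈ E, ∀ g : G, (∀ x : G, x⁻¹ * g * x ∈ K → x⁻¹ * g * x = 1) →
    (ψ : G → ℂ) g = (φ : G → ℂ) g
  others : ∀ ψ : IrrCharacter G, ψ ∉ E → ConstInt K (ψ : G → ℂ)
  notConst : ∀ ψ ∈ E, ¬ ConstInt K (ψ : G → ℂ)
  inj : ∀ ψ ∈ E, ∀ φ ∈ E, (∀ k ∈ K, k ≠ 1 → (ψ : G → ℂ) k = (φ : G → ℂ) k) → ψ = φ
  sum : ∀ k ∈ K, k ≠ 1 → ∑ ψ ∈ E, (ψ : G → ℂ) k = ((-ε + E.card * z : ℤ) : ℂ)
  sumSq : ∀ k ∈ K, k ≠ 1 → ∑ ψ ∈ E, (ψ : G → ℂ) k * conj ((ψ : G → ℂ) k) =
    (((Nat.card K : ℤ) - e - 2 * ε * z + E.card * z ^ 2 : ℤ) : ℂ)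

section

variable [Fintype ↥(Subgroup.normalizer (K : Set G))]

omit [Fintype G] in
/-- A generalised character of the normaliser meeting all nontrivial characters alike. -/
theorem constInt_of_inner {F : ↥(Subgroup.normalizer (K : Set G)) → ℂ}
    (hF : IsGeneralizedCharacter ↥(Subgroup.normalizer (K : Set G)) F) (χ₀ : Rel K) {d : ℕ}
    (hd : ∀ χ : Rel K, (χ.1 : ↥(Subgroup.normalizer (K : Set G)) → ℂ) 1 = (d : ℂ))
    (hd0 : d = (KN K).index)
    (h : ∀ χ : Rel K, classInner F (χ.1 : ↥(Subgroup.normalizer (K : Set G)) → ℂ) =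
      classInner F (χ₀.1 : ↥(Subgroup.normalizer (K : Set G)) → ℂ)) :
    ∃ v : ℤ, ∀ k : ↥(Subgroup.normalizer (K : Set G)), (k : G) ∈ K → k ≠ 1 → F k = (v : ℂ) := by
  classical
  obtain ⟨t, ht⟩ := IsGenChar.classInner_int hF (IsGenChar.of_isCharacter (IsIrr.isCharacter χ₀.1.2))
  choose w hw using fun ρ : IrrCharacter ↥(Subgroup.normalizer (K : Set G)) =>
    IsGenChar.classInner_int hF (IsGenChar.of_isCharacter (IsIrr.isCharacter ρ.2))
  choose c hc0 hc using fun ρ : IrrCharacter ↥(Subgroup.normalizer (K : Set G)) => IsIrr.one_eq_pos ρ.2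
  have hd' : (d : ℂ) ≠ 0 := by
    rw [hd0]; exact Nat.cast_ne_zero.mpr Subgroup.index_ne_zero_of_finite
  refine ⟨(∑ ρ ∈ Finset.univ.filter (fun ρ : IrrCharacter ↥(Subgroup.normalizer (K : Set G)) =>
    ¬ NonTriv (KN K) (ρ : ↥(Subgroup.normalizer (K : Set G)) → ℂ)), w ρ * (c ρ : ℤ)) - t,
    fun k hk hk1 => ?_⟩
  rw [value_of_proportional (KN K) (t := (t : ℂ) / d) (IsGenChar.classFun hF) (fun χ hχ => by
    rw [hd ⟨χ, hχ⟩, div_mul_cancel₀ _ hd', h ⟨χ, hχ⟩, ht]) (k := k) hk hk1]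
  push_cast
  rw [← hd0, div_mul_cancel₀ _ hd']
  simp [hw, hc]

omit [Fintype G] in
include hC in
theorem deg_rel (hab : ∀ a ∈ K, ∀ b ∈ K, a * b = b * a) (χ : Rel K) :
    (χ.1 : ↥(Subgroup.normalizer (K : Set G)) → ℂ) 1 = ((KN K).index : ℂ) :=
  degree_eq_index (KN K) (fun _ ha _ hb => Subtype.ext (hab _ ha _ hb))
    (fix_of_centralizer K hC) χ.1.2 χ.2

omit [Fintype G] in
include hC in
theorem card_rel (hab : ∀ a ∈ K, ∀ b ∈ K, a * b = b * a) :
    Nat.card (Rel K) * (KN K).index + 1 = Nat.card K := by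
  classical
  have h := sum_sq_nonTriv (KN K)
  have hsum : ∑ χ ∈ Finset.univ.filter (fun χ : IrrCharacter ↥(Subgroup.normalizer (K : Set G)) =>
      NonTriv (KN K) (χ : ↥(Subgroup.normalizer (K : Set G)) → ℂ)),
      (χ : ↥(Subgroup.normalizer (K : Set G)) → ℂ) 1 * (χ : ↥(Subgroup.normalizer (K : Set G)) → ℂ) 1 =
      (Nat.card (Rel K) : ℂ) * ((KN K).index : ℂ) * ((KN K).index : ℂ) := by
    rw [Finset.sum_congr rfl (g := fun _ => ((KN K).index : ℂ) * ((KN K).index : ℂ))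
      (fun χ hχ => by rw [deg_rel K hC hab ⟨χ, (Finset.mem_filter.1 hχ).2⟩]),
      Finset.sum_const, nsmul_eq_mul, mul_assoc]
    congr 2
    exact (Nat.subtype_card _ fun χ => ⟨fun hh => (Finset.mem_filter.1 hh).2,
      fun hh => Finset.mem_filter.2 ⟨Finset.mem_univ _, hh⟩⟩).symm
  rw [hsum] at h
  have hN : Nat.card ↥(Subgroup.normalizer (K : Set G)) = Nat.card K * (KN K).index := by
    rw [← (KN K).card_mul_index]
    congr 1
    exact Nat.card_congr (Subgroup.subgroupOfEquivOfLe Subgroup.le_normalizer).toEquiv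
  rw [hN, Nat.cast_mul] at h
  have he : ((KN K).index : ℂ) ≠ 0 := Nat.cast_ne_zero.mpr Subgroup.index_ne_zero_of_finite
  have h' : ((Nat.card (Rel K) : ℂ) * ((KN K).index : ℂ) + 1) * ((KN K).index : ℂ) =
      (Nat.card K : ℂ) * ((KN K).index : ℂ) := by linear_combination h
  exact_mod_cast mul_right_cancel₀ he h'

end

include hC hab in
/-- One nontrivial character of the normaliser: all values are constant. -/
theorem constInt_single {e : ℕ} (he : (KN K).index = e) (h : Nat.card K = e + 1)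
    (ψ : IrrCharacter G) : ConstInt K (ψ : G → ℂ) := by
  classical
  letI : Fintype ↥(Subgroup.normalizer (K : Set G)) := Fintype.ofFinite _
  have hc := card_rel K hC hab
  have he0 : 0 < e := he ▸ Nat.pos_of_ne_zero Subgroup.index_ne_zero_of_finite
  have h1 : Nat.card (Rel K) = 1 := by
    rw [he, h] at hc
    exact Nat.eq_of_mul_eq_mul_right he0 (by omega)
  obtain ⟨hs, ⟨χ₀⟩⟩ := Nat.card_eq_one_iff_unique.1 h1
  obtain ⟨v, hv⟩ := constInt_of_inner K
    (IsGenChar.comp (Subgroup.normalizer (K : Set G)).subtype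
      (IsGenChar.of_isCharacter (IsIrr.isCharacter ψ.2))) χ₀ (d := e)
    (fun χ => by rw [deg_rel K hC hab χ, he]) he.symm (fun χ => by rw [Subsingleton.elim χ χ₀])
  exact ⟨v, fun k hk hk1 => hv ⟨k, Subgroup.le_normalizer hk⟩ hk
    fun e => hk1 (congrArg Subtype.val e)⟩

include hTI hlt hC hab in
theorem exists_excData {e : ℕ} (he : (KN K).index = e) (h : Nat.card K ≠ e + 1)
    (hK : 1 < Nat.card K) :
    Nonempty (ExcData K e) := by
  classical
  letI : Fintype ↥(Subgroup.normalizer (K : Set G)) := Fintype.ofFinite _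
  have hfix := fix_of_centralizer K hC
  have hnt : ∀ χ : Rel K, NonTriv (KN K) (χ.1 : ↥(Subgroup.normalizer (K : Set G)) → ℂ) :=
    fun χ => χ.2
  have hdeg : ∀ χ : Rel K, (χ.1 : ↥(Subgroup.normalizer (K : Set G)) → ℂ) 1 = (e : ℂ) :=
    fun χ => by rw [deg_rel K hC hab χ, he]
  have hcR := card_rel K hC hab
  rw [he] at hcR
  obtain ⟨ε, f, hε, hf, hind⟩ :=
    (brauer_suzuki K hTI hlt hC hab).resolve_left (by
      rintro ⟨-, p, -, -, h'⟩; exact h (h'.trans (by rw [he])))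
  obtain ⟨εz, hεz, hεz'⟩ : ∃ εz : ℤ, (εz = 1 ∨ εz = -1) ∧ ε = (εz : ℂ) := by
    rcases hε with h | h
    · exact ⟨1, Or.inl rfl, by simp [h]⟩
    · exact ⟨-1, Or.inr rfl, by simp [h]⟩
  subst hεz'
  -- restriction of the differences
  have hres : ∀ (χ ξ : Rel K) (k : ↥(Subgroup.normalizer (K : Set G))),
      (εz : ℂ) * ((f χ : G → ℂ) k - (f ξ : G → ℂ) k) =
        (χ.1 : ↥(Subgroup.normalizer (K : Set G)) → ℂ) k -
          (ξ.1 : ↥(Subgroup.normalizer (K : Set G)) → ℂ) k := by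
    intro χ ξ k
    have h1 := res_ind K hC hTI hlt
      (α := (χ.1 : ↥(Subgroup.normalizer (K : Set G)) → ℂ) -
        (ξ.1 : ↥(Subgroup.normalizer (K : Set G)) → ℂ))
      (classFunction_sub (IsIrr.classFun χ.1.2) (IsIrr.classFun ξ.1.2))
      (fun x hx => by
        rw [Pi.sub_apply, vanish (KN K) hfix χ.1.2 (hnt χ) hx, vanish (KN K) hfix ξ.1.2 (hnt ξ) hx,
          sub_self])
      (by rw [Pi.sub_apply, hdeg, hdeg, sub_self]) k
    rw [hind χ ξ, Pi.smul_apply, smul_eq_mul, Pi.sub_apply, Pi.sub_apply] at h1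
    exact h1
  have hεsq : (εz : ℂ) * (εz : ℂ) = 1 := by rcases hεz with h | h <;> simp [h]
  have hres' : ∀ (χ ξ : Rel K) (k : ↥(Subgroup.normalizer (K : Set G))),
      (f χ : G → ℂ) k - (εz : ℂ) * (χ.1 : ↥(Subgroup.normalizer (K : Set G)) → ℂ) k =
      (f ξ : G → ℂ) k - (εz : ℂ) * (ξ.1 : ↥(Subgroup.normalizer (K : Set G)) → ℂ) k := by
    intro χ ξ k
    linear_combination (εz : ℂ) * hres χ ξ k -
      ((f χ : G → ℂ) k - (f ξ : G → ℂ) k) * hεsq
  have hinner : ∀ (ψ : IrrCharacter G) (χ ξ : Rel K),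
      classInner (fun x : ↥(Subgroup.normalizer (K : Set G)) => (ψ : G → ℂ) x)
          (χ.1 : ↥(Subgroup.normalizer (K : Set G)) → ℂ) -
        classInner (fun x : ↥(Subgroup.normalizer (K : Set G)) => (ψ : G → ℂ) x)
          (ξ.1 : ↥(Subgroup.normalizer (K : Set G)) → ℂ) =
        (εz : ℂ) * ((if ψ = f χ then 1 else 0) - (if ψ = f ξ then 1 else 0)) := by
    intro ψ χ ξ
    rw [← classInner_sub_right, ← classInner_indFun_right _ _ (IsIrr.classFun ψ.2), hind χ ξ,
      classInner_smul_right, classInner_sub_right, classInner_irr_eq_ite ψ.2 (f χ).2,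
      classInner_irr_eq_ite ψ.2 (f ξ).2]
    simp [Subtype.coe_inj]
  -- the base character
  obtain ⟨χ₀⟩ : Nonempty (Rel K) := by
    by_contra hne
    rw [not_nonempty_iff] at hne
    rw [Nat.card_of_isEmpty, zero_mul, zero_add] at hcR
    omega
  set F₀ : ↥(Subgroup.normalizer (K : Set G)) → ℂ := fun x =>
    (f χ₀ : G → ℂ) x - (εz : ℂ) * (χ₀.1 : ↥(Subgroup.normalizer (K : Set G)) → ℂ) x with hF₀
  have hgen : IsGeneralizedCharacter ↥(Subgroup.normalizer (K : Set G)) F₀ := by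
    have e1 : F₀ = (fun x : ↥(Subgroup.normalizer (K : Set G)) => (f χ₀ : G → ℂ) x) -
        (εz : ℂ) • (χ₀.1 : ↥(Subgroup.normalizer (K : Set G)) → ℂ) := by
      funext x; simp [hF₀, Pi.smul_apply]
    rw [e1]
    exact IsGenChar.sub (IsGenChar.comp (Subgroup.normalizer (K : Set G)).subtype
      (IsGenChar.of_isCharacter (IsIrr.isCharacter (f χ₀).2)))
      (IsGenChar.zsmul (IsGenChar.of_isCharacter (IsIrr.isCharacter χ₀.1.2)) εz)
  obtain ⟨z, hz⟩ := constInt_of_inner K hgen χ₀ (d := e) hdeg he.symm (fun ρ => by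
    have e1 : F₀ = (fun x : ↥(Subgroup.normalizer (K : Set G)) => (f χ₀ : G → ℂ) x) -
        (εz : ℂ) • (χ₀.1 : ↥(Subgroup.normalizer (K : Set G)) → ℂ) := by
      funext x; simp [hF₀, Pi.smul_apply]
    rw [e1, classInner_sub_left, classInner_sub_left, classInner_smul_left, classInner_smul_left,
      classInner_irr_eq_ite χ₀.1.2 ρ.1.2, classInner_irr_eq_ite χ₀.1.2 χ₀.1.2]
    have h2 := hinner (f χ₀) ρ χ₀
    rw [if_pos rfl] at h2
    by_cases hρ : ρ = χ₀
    · subst hρ; rfl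
    · rw [if_neg fun e => hρ (hf e).symm] at h2
      rw [if_pos rfl, if_neg fun e => hρ (Subtype.ext (Subtype.ext e)).symm]
      linear_combination h2)
  have hval : ∀ (χ : Rel K) (k : ↥(Subgroup.normalizer (K : Set G))), (k : G) ∈ K → k ≠ 1 →
      (f χ : G → ℂ) k = (εz : ℂ) * (χ.1 : ↥(Subgroup.normalizer (K : Set G)) → ℂ) k + (z : ℂ) := by
    intro χ k hk hk1
    rw [← hz k hk hk1, hF₀]
    linear_combination hres' χ χ₀ k
  -- sums over the nontrivial characters of the normaliser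
  have hfilt : ∀ g : IrrCharacter ↥(Subgroup.normalizer (K : Set G)) → ℂ,
      ∑ χ : Rel K, g χ.1 = ∑ χ ∈ Finset.univ.filter
        (fun χ : IrrCharacter ↥(Subgroup.normalizer (K : Set G)) =>
          NonTriv (KN K) (χ : ↥(Subgroup.normalizer (K : Set G)) → ℂ)), g χ := fun g =>
    (Finset.sum_subtype _ (fun χ => by
      simp only [Finset.mem_filter, Finset.mem_univ, true_and]; rfl) g).symm
  have htriv : ∀ k : ↥(Subgroup.normalizer (K : Set G)), (k : G) ∈ K →
      ∀ χ : IrrCharacter ↥(Subgroup.normalizer (K : Set G)),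
        ¬ NonTriv (KN K) (χ : ↥(Subgroup.normalizer (K : Set G)) → ℂ) →
        (χ : ↥(Subgroup.normalizer (K : Set G)) → ℂ) k = (χ : ↥(Subgroup.normalizer (K : Set G)) → ℂ) 1 := by
    intro k hk χ hn
    simp only [NonTriv, not_exists, not_and, not_not] at hn
    exact hn k hk
  have hreal : ∀ χ : IrrCharacter ↥(Subgroup.normalizer (K : Set G)),
      conj ((χ : ↥(Subgroup.normalizer (K : Set G)) → ℂ) 1) = (χ : ↥(Subgroup.normalizer (K : Set G)) → ℂ) 1 := by
    intro χ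
    obtain ⟨n, -, hn⟩ := IsIrr.one_eq_pos χ.2
    rw [hn, map_natCast]
  have he0 : (e : ℂ) ≠ 0 := by
    rw [← he]; exact Nat.cast_ne_zero.mpr Subgroup.index_ne_zero_of_finite
  have hcrd : Nat.card (Rel K) = Fintype.card (Rel K) := Nat.card_eq_fintype_card
  have hs1 : ∀ k : ↥(Subgroup.normalizer (K : Set G)), (k : G) ∈ K → k ≠ 1 →
      ∑ χ : Rel K, (χ.1 : ↥(Subgroup.normalizer (K : Set G)) → ℂ) k = -1 := by
    intro k hk hk1
    have hreg := regular_expansion (G := ↥(Subgroup.normalizer (K : Set G))) k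
    rw [if_neg hk1, ← Finset.sum_filter_add_sum_filter_not Finset.univ
      (fun χ : IrrCharacter ↥(Subgroup.normalizer (K : Set G)) =>
        NonTriv (KN K) (χ : ↥(Subgroup.normalizer (K : Set G)) → ℂ))] at hreg
    rw [Finset.sum_congr rfl (s₁ := Finset.univ.filter
      (fun χ : IrrCharacter ↥(Subgroup.normalizer (K : Set G)) =>
        ¬ NonTriv (KN K) (χ : ↥(Subgroup.normalizer (K : Set G)) → ℂ)))
      (g := fun χ : IrrCharacter ↥(Subgroup.normalizer (K : Set G)) =>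
        (χ : ↥(Subgroup.normalizer (K : Set G)) → ℂ) 1 * (χ : ↥(Subgroup.normalizer (K : Set G)) → ℂ) 1)
      (fun χ hχ => by rw [htriv k hk χ (Finset.mem_filter.1 hχ).2]), sum_sq_triv (KN K), he,
      ← hfilt, Finset.sum_congr rfl (g := fun χ : Rel K =>
        (e : ℂ) * (χ.1 : ↥(Subgroup.normalizer (K : Set G)) → ℂ) k) (fun χ _ => by rw [hdeg χ]),
      ← Finset.mul_sum] at hreg
    exact mul_left_cancel₀ he0 (by linear_combination hreg)
  have hs2 : ∀ k : ↥(Subgroup.normalizer (K : Set G)), (k : G) ∈ K → k ≠ 1 →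
      ∑ χ : Rel K, (χ.1 : ↥(Subgroup.normalizer (K : Set G)) → ℂ) k *
        conj ((χ.1 : ↥(Subgroup.normalizer (K : Set G)) → ℂ) k) = (Nat.card K : ℂ) - (e : ℂ) := by
    intro k hk hk1
    have horth := sum_irr_mul_conj (G := ↥(Subgroup.normalizer (K : Set G))) k k
    have hcent : Subgroup.centralizer ({k} : Set ↥(Subgroup.normalizer (K : Set G))) = KN K := by
      ext x
      rw [Subgroup.mem_centralizer_singleton_iff]
      refine ⟨fun hx => hfix k hk hk1 x hx, fun hx => Subtype.ext ?_⟩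
      exact hab _ hx _ hk
    rw [if_pos (IsConj.refl k), hcent,
      Nat.card_congr (Subgroup.subgroupOfEquivOfLe (Subgroup.le_normalizer (H := K))).toEquiv,
      ← Finset.sum_filter_add_sum_filter_not Finset.univ
      (fun χ : IrrCharacter ↥(Subgroup.normalizer (K : Set G)) =>
        NonTriv (KN K) (χ : ↥(Subgroup.normalizer (K : Set G)) → ℂ))] at horth
    rw [Finset.sum_congr rfl (s₁ := Finset.univ.filter
      (fun χ : IrrCharacter ↥(Subgroup.normalizer (K : Set G)) =>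
        ¬ NonTriv (KN K) (χ : ↥(Subgroup.normalizer (K : Set G)) → ℂ)))
      (g := fun χ : IrrCharacter ↥(Subgroup.normalizer (K : Set G)) =>
        (χ : ↥(Subgroup.normalizer (K : Set G)) → ℂ) 1 * (χ : ↥(Subgroup.normalizer (K : Set G)) → ℂ) 1)
      (fun χ hχ => by rw [htriv k hk χ (Finset.mem_filter.1 hχ).2, hreal]), sum_sq_triv (KN K), he,
      ← hfilt] at horth
    linear_combination horth
  have hEcard : ((Finset.univ : Finset (Rel K)).image f).card = Nat.card (Rel K) := by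
    rw [Finset.card_image_of_injective _ hf, Finset.card_univ, hcrd]
  refine ⟨⟨(Finset.univ : Finset (Rel K)).image f, εz, z, hεz, by rw [hEcard, hcR], ?_, ?_, ?_, ?_, ?_, ?_⟩⟩
  · intro ψ hψ φ hφ g hg
    obtain ⟨χ, -, rfl⟩ := Finset.mem_image.1 hψ
    obtain ⟨ξ, -, rfl⟩ := Finset.mem_image.1 hφ
    have h0 : indFun (Subgroup.normalizer (K : Set G))
        ((χ.1 : ↥(Subgroup.normalizer (K : Set G)) → ℂ) -
          (ξ.1 : ↥(Subgroup.normalizer (K : Set G)) → ℂ)) g = 0 := by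
      refine indFun_eq_zero_of_not_conj _ _ fun x hx => ?_
      by_cases hK : x⁻¹ * g * x ∈ K
      · rw [show (⟨x⁻¹ * g * x, hx⟩ : ↥(Subgroup.normalizer (K : Set G))) = 1 from
          Subtype.ext (hg x hK), Pi.sub_apply, hdeg, hdeg, sub_self]
      · rw [Pi.sub_apply, vanish (KN K) hfix χ.1.2 (hnt χ) (show (⟨x⁻¹ * g * x, hx⟩ :
          ↥(Subgroup.normalizer (K : Set G))) ∉ KN K from hK),
          vanish (KN K) hfix ξ.1.2 (hnt ξ) (show (⟨x⁻¹ * g * x, hx⟩ :
          ↥(Subgroup.normalizer (K : Set G))) ∉ KN K from hK), sub_self]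
    rw [hind χ ξ, Pi.smul_apply, smul_eq_mul, Pi.sub_apply] at h0
    exact sub_eq_zero.1 ((mul_eq_zero.1 h0).resolve_left (by rcases hεz with h | h <;> simp [h]))
  · intro ψ hψ
    obtain ⟨v, hv⟩ := constInt_of_inner K (IsGenChar.comp (Subgroup.normalizer (K : Set G)).subtype
      (IsGenChar.of_isCharacter (IsIrr.isCharacter ψ.2))) χ₀ (d := e) hdeg he.symm (fun χ => by
        refine sub_eq_zero.1 ?_
        show classInner (fun x : ↥(Subgroup.normalizer (K : Set G)) => (ψ : G → ℂ) x)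
            (χ.1 : ↥(Subgroup.normalizer (K : Set G)) → ℂ) -
          classInner (fun x : ↥(Subgroup.normalizer (K : Set G)) => (ψ : G → ℂ) x)
            (χ₀.1 : ↥(Subgroup.normalizer (K : Set G)) → ℂ) = 0
        rw [hinner ψ χ χ₀, if_neg fun e => hψ (Finset.mem_image.2 ⟨χ, Finset.mem_univ _, e.symm⟩),
          if_neg fun e => hψ (Finset.mem_image.2 ⟨χ₀, Finset.mem_univ _, e.symm⟩), sub_self,
          mul_zero])
    exact ⟨v, fun k hk hk1 => hv ⟨k, Subgroup.le_normalizer hk⟩ hk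
      fun e => hk1 (congrArg Subtype.val e)⟩
  · intro ψ hψ hconst
    obtain ⟨v, hv⟩ := hconst
    obtain ⟨χ, -, rfl⟩ := Finset.mem_image.1 hψ
    obtain ⟨ξ, hξ⟩ : ∃ ξ : Rel K, ξ ≠ χ := by
      haveI : Nontrivial (Rel K) := Finite.one_lt_card_iff_nontrivial.1 (by
        rcases Nat.lt_or_ge 1 (Nat.card (Rel K)) with hh | hh
        · exact hh
        · exfalso
          interval_cases hR : Nat.card (Rel K) <;> omega)
      exact exists_ne χ
    obtain ⟨a, ha, b, hb, ha1, hb1, hne⟩ := not_const (KN K) hfix (χ := χ.1) (ξ := ξ.1) (hnt χ) (hnt ξ)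
      fun e => hξ (Subtype.ext e.symm)
    refine hne (mul_left_cancel₀ (show (εz : ℂ) ≠ 0 by rcases hεz with h | h <;> simp [h]) ?_)
    have h1 := hval χ a ha ha1
    have h2 := hval χ b hb hb1
    rw [hv a ha fun e => ha1 (Subtype.ext e)] at h1
    rw [hv b hb fun e => hb1 (Subtype.ext e), h1] at h2
    exact add_right_cancel h2
  · intro ψ hψ φ hφ hk
    obtain ⟨χ, -, rfl⟩ := Finset.mem_image.1 hψ
    obtain ⟨ξ, -, rfl⟩ := Finset.mem_image.1 hφ
    congr 1
    refine Subtype.ext (Subtype.ext (funext fun x => ?_))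
    by_cases hx1 : x = 1
    · rw [hx1, hdeg, hdeg]
    by_cases hxK : (x : G) ∈ K
    · have h1 := hval χ x hxK hx1
      have h2 := hval ξ x hxK hx1
      rw [hk x hxK (fun e => hx1 (Subtype.ext e)), h2] at h1
      exact (mul_left_cancel₀ (by rcases hεz with h | h <;> simp [h]) (add_right_cancel h1)).symm
    · rw [vanish (KN K) hfix χ.1.2 (hnt χ) hxK, vanish (KN K) hfix ξ.1.2 (hnt ξ) hxK]
  · intro k hk hk1
    have hk1' : (⟨k, Subgroup.le_normalizer hk⟩ : ↥(Subgroup.normalizer (K : Set G))) ≠ 1 :=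
      fun e => hk1 (congrArg Subtype.val e)
    rw [Finset.sum_image hf.injOn, Finset.sum_congr rfl
      (fun χ _ => hval χ ⟨k, Subgroup.le_normalizer hk⟩ hk hk1'), Finset.sum_add_distrib,
      ← Finset.mul_sum, hs1 _ hk hk1', Finset.sum_const, Finset.card_univ, nsmul_eq_mul, hEcard, hcrd]
    push_cast
    ring
  · intro k hk hk1
    set k' : ↥(Subgroup.normalizer (K : Set G)) := ⟨k, Subgroup.le_normalizer hk⟩ with hk'
    have hk1' : k' ≠ 1 := fun e => hk1 (congrArg Subtype.val e)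
    have hc1 : ∑ χ : Rel K, conj ((χ.1 : ↥(Subgroup.normalizer (K : Set G)) → ℂ) k') = -1 := by
      rw [← map_sum, hs1 k' hk hk1', map_neg, map_one]
    rw [Finset.sum_image hf.injOn]
    rw [Finset.sum_congr rfl (g := fun χ : Rel K =>
        (χ.1 : ↥(Subgroup.normalizer (K : Set G)) → ℂ) k' *
          conj ((χ.1 : ↥(Subgroup.normalizer (K : Set G)) → ℂ) k') +
        ((εz : ℂ) * (z : ℂ)) * ((χ.1 : ↥(Subgroup.normalizer (K : Set G)) → ℂ) k' +
          conj ((χ.1 : ↥(Subgroup.normalizer (K : Set G)) → ℂ) k')) + (z : ℂ) * (z : ℂ))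
      (fun χ _ => by
        rw [show (f χ : G → ℂ) k = (f χ : G → ℂ) k' from rfl, hval χ k' hk hk1', map_add, map_mul,
          map_intCast, map_intCast]
        linear_combination ((χ.1 : ↥(Subgroup.normalizer (K : Set G)) → ℂ) k' *
          conj ((χ.1 : ↥(Subgroup.normalizer (K : Set G)) → ℂ) k')) * hεsq),
      Finset.sum_add_distrib, Finset.sum_add_distrib, ← Finset.mul_sum, Finset.sum_add_distrib,
      hs2 k' hk hk1', hs1 k' hk hk1', hc1, Finset.sum_const, Finset.card_univ, nsmul_eq_mul,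
      hEcard, hcrd]
    push_cast
    ring

end Cfsg.Agent.Block.SzDeg
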