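import Cfsg.Agent.Lib.Block.SuzukiDegree.Main
import Cfsg.Agent.Lib.Char.Quotient
import Cfsg.Agent.Lib.Lie.Sz.LieEquiv
import Cfsg.Prelude.Def_DegreeGraph

/-!
The character degree graph of the Suzuki groups.
-/

set_option autoImplicit false

namespace Cfsg.Agent.Block.SzDeg

open Cfsg Cfsg.Agent.Suz

universe u v

theorem charDegrees_congr {G : Type u} {H : Type v} [Group G] [Group H] [Finite G] [Finite H] (e : G ≃* H) :
    charDegrees G = charDegrees H := by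
  ext d
  constructor
  · rintro ⟨χ, rfl⟩
    exact ⟨⟨fun h => (χ : G → ℂ) (e.symm h),
      Cfsg.Agent.Char.IsIrr.comp_surjective e.symm.toMonoidHom e.symm.surjective χ.2⟩, by
        simp [charDegree]⟩
  · rintro ⟨χ, rfl⟩
    exact ⟨⟨fun h => (χ : H → ℂ) (e h),
      Cfsg.Agent.Char.IsIrr.comp_surjective e.toMonoidHom e.surjective χ.2⟩, by simp [charDegree]⟩

/-- The graph read off from the list of degrees. -/
theorem graph_of_list {m : ℕ} (hm : 1 ≤ m) {D : Set ℕ}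
    (hmem : ∀ d ∈ D, d ∈ ({1, (2 ^ (2 * m + 1)) ^ 2, (2 ^ (2 * m + 1)) ^ 2 + 1,
      (2 ^ (2 * m + 1) - 1) * (2 ^ (2 * m + 1) + 2 ^ (m + 1) + 1),
      (2 ^ (2 * m + 1) - 1) * (2 ^ (2 * m + 1) - 2 ^ (m + 1) + 1),
      (2 ^ (2 * m + 1) - 1) * 2 ^ m} : Set ℕ))
    (hex : ∀ d ∈ ({(2 ^ (2 * m + 1)) ^ 2, (2 ^ (2 * m + 1)) ^ 2 + 1,
      (2 ^ (2 * m + 1) - 1) * (2 ^ (2 * m + 1) + 2 ^ (m + 1) + 1),
      (2 ^ (2 * m + 1) - 1) * (2 ^ (2 * m + 1) - 2 ^ (m + 1) + 1),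
      (2 ^ (2 * m + 1) - 1) * 2 ^ m} : Set ℕ), d ∈ D)
    (hprod : (2 ^ (2 * m + 1) + 2 ^ (m + 1) + 1) * (2 ^ (2 * m + 1) - 2 ^ (m + 1) + 1) =
      (2 ^ (2 * m + 1)) ^ 2 + 1) :
    ({p | p.Prime ∧ ∃ d ∈ D, p ∣ d} : Set ℕ) =
      {r : ℕ | r.Prime ∧ (r = 2 ∨ r ∣ (2 ^ (2 * m + 1) - 1) * ((2 ^ (2 * m + 1)) ^ 2 + 1))} ∧
    ∀ r s : ℕ, (r ≠ s ∧ r.Prime ∧ s.Prime ∧ ∃ d ∈ D, r * s ∣ d) ↔
      (r ≠ s ∧ r.Prime ∧ s.Prime ∧
        ((r ∣ (2 ^ (2 * m + 1) - 1) * ((2 ^ (2 * m + 1)) ^ 2 + 1) ∧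
          s ∣ (2 ^ (2 * m + 1) - 1) * ((2 ^ (2 * m + 1)) ^ 2 + 1)) ∨
        (r = 2 ∧ s ∣ 2 ^ (2 * m + 1) - 1) ∨ (s = 2 ∧ r ∣ 2 ^ (2 * m + 1) - 1))) := by
  simp only [Set.mem_insert_iff, Set.mem_singleton_iff] at hmem hex
  set a := 2 ^ (2 * m + 1) + 2 ^ (m + 1) + 1 with ha
  set b := 2 ^ (2 * m + 1) - 2 ^ (m + 1) + 1 with hb
  set q := 2 ^ (2 * m + 1) with hq
  set M := (q - 1) * (q ^ 2 + 1) with hM
  have htwo : ∀ {p : ℕ}, p.Prime → p ∣ q ^ 2 → p = 2 := by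
    intro p hp h
    rw [hq, ← pow_mul] at h
    exact (Nat.prime_dvd_prime_iff_eq hp Nat.prime_two).1 (hp.dvd_of_dvd_pow h)
  have htwo' : ∀ {p : ℕ}, p.Prime → p ∣ (q - 1) * 2 ^ m → p ∣ q - 1 ∨ p = 2 := fun {p} hp h =>
    (hp.dvd_mul.1 h).imp id fun h' => (Nat.prime_dvd_prime_iff_eq hp Nat.prime_two).1 (hp.dvd_of_dvd_pow h')
  have hodd : ¬ 2 ∣ M := by
    rw [hM, Nat.prime_two.dvd_mul]
    have h2 : 2 ∣ q := dvd_pow_self 2 (by omega)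
    have h3 : 2 ∣ q ^ 2 := dvd_pow h2 two_ne_zero
    have h4 : 1 ≤ q := Nat.one_le_two_pow
    omega
  have hsmall : ∀ d ∈ D, d ∣ M ∨ d = q ^ 2 ∨ d = (q - 1) * 2 ^ m := by
    intro d hd
    rcases hmem d hd with rfl | rfl | rfl | rfl | rfl | rfl
    · exact Or.inl (one_dvd _)
    · exact Or.inr (Or.inl rfl)
    · exact Or.inl (dvd_mul_left _ _)
    · exact Or.inl (Nat.mul_dvd_mul_left _ (hprod ▸ dvd_mul_right a b))
    · exact Or.inl (Nat.mul_dvd_mul_left _ (hprod ▸ dvd_mul_left b a))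
    · exact Or.inr (Or.inr rfl)
  have hR : (q - 1) * 2 ^ m ∈ D := hex _ (by simp)
  constructor
  · ext p
    simp only [Set.mem_setOf_eq]
    refine ⟨fun ⟨hp, d, hd, hpd⟩ => ⟨hp, ?_⟩, fun ⟨hp, h⟩ => ⟨hp, ?_⟩⟩
    · rcases hsmall d hd with h | rfl | rfl
      · exact Or.inr (hpd.trans h)
      · exact Or.inl (htwo hp hpd)
      · exact (htwo' hp hpd).symm.imp id fun h => h.mul_right _
    · rcases h with rfl | h
      · exact ⟨q ^ 2, hex _ (by simp), dvd_pow (dvd_pow_self 2 (by omega)) two_ne_zero⟩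
      · rcases hp.dvd_mul.1 h with h' | h'
        · exact ⟨_, hR, h'.mul_right _⟩
        · exact ⟨q ^ 2 + 1, hex _ (by simp), h'⟩
  · intro r s
    refine and_congr_right fun hne => and_congr_right fun hr => and_congr_right fun hs => ?_
    have hco : Nat.Coprime r s := (Nat.coprime_primes hr hs).2 hne
    constructor
    · rintro ⟨d, hd, hrs⟩
      have h1 : r ∣ d := (dvd_mul_right r s).trans hrs
      have h2 : s ∣ d := (dvd_mul_left s r).trans hrs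
      rcases hsmall d hd with h | rfl | rfl
      · exact Or.inl ⟨h1.trans h, h2.trans h⟩
      · exact absurd ((htwo hr h1).trans (htwo hs h2).symm) hne
      · rcases htwo' hr h1 with e1 | e1 <;> rcases htwo' hs h2 with e2 | e2
        · exact Or.inl ⟨e1.mul_right _, e2.mul_right _⟩
        · exact Or.inr (Or.inr ⟨e2, e1⟩)
        · exact Or.inr (Or.inl ⟨e1, e2⟩)
        · exact absurd (e1.trans e2.symm) hne
    · rintro (⟨h1, h2⟩ | ⟨rfl, h2⟩ | ⟨rfl, h1⟩)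
      · have mix : ∀ {p t : ℕ}, p ∣ q - 1 → t.Prime → t ∣ q ^ 2 + 1 → ∃ d ∈ D, p * t ∣ d := by
          intro p t hp ht htd
          rw [← hprod] at htd
          rcases ht.dvd_mul.1 htd with h | h
          · exact ⟨(q - 1) * a, hex _ (by simp), Nat.mul_dvd_mul hp h⟩
          · exact ⟨(q - 1) * b, hex _ (by simp), Nat.mul_dvd_mul hp h⟩
        rcases hr.dvd_mul.1 h1 with e1 | e1 <;> rcases hs.dvd_mul.1 h2 with e2 | e2
        · exact ⟨_, hR, (hco.mul_dvd_of_dvd_of_dvd e1 e2).mul_right _⟩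
        · exact mix e1 hs e2
        · obtain ⟨d, hd, h⟩ := mix e2 hr e1
          exact ⟨d, hd, mul_comm r s ▸ h⟩
        · exact ⟨q ^ 2 + 1, hex _ (by simp), hco.mul_dvd_of_dvd_of_dvd e1 e2⟩
      · exact ⟨_, hR, mul_comm s 2 ▸ Nat.mul_dvd_mul h2 (dvd_pow_self 2 (by omega))⟩
      · exact ⟨_, hR, Nat.mul_dvd_mul h1 (dvd_pow_self 2 (by omega))⟩

theorem graph_of_equiv {F : Type u} [Field F] [Fintype F] {m : ℕ} (hS : SzField F m)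
    {S : Type v} [Group S] [Finite S] (e : S ≃* ↥(Cfsg.Lie.Sz F (2 ^ (m + 1)))) :
    Cfsg.degreePrimes S = {r : ℕ | r.Prime ∧ (r = 2 ∨ r ∣ (2 ^ (2 * m + 1) - 1) * ((2 ^ (2 * m + 1)) ^ 2 + 1))} ∧
    ∀ r s : ℕ, (Cfsg.degreeGraph S).Adj r s ↔
      (r ≠ s ∧ r.Prime ∧ s.Prime ∧
        ((r ∣ (2 ^ (2 * m + 1) - 1) * ((2 ^ (2 * m + 1)) ^ 2 + 1) ∧
          s ∣ (2 ^ (2 * m + 1) - 1) * ((2 ^ (2 * m + 1)) ^ 2 + 1)) ∨
        (r = 2 ∧ s ∣ 2 ^ (2 * m + 1) - 1) ∨ (s = 2 ∧ r ∣ 2 ^ (2 * m + 1) - 1))) := by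
  classical
  letI : Fintype ↥(Cfsg.Sz F m) := Fintype.ofFinite _
  obtain ⟨h1, h2⟩ := degrees hS
  have hd := charDegrees_congr (e.trans (szEquiv hS).symm)
  refine graph_of_list (D := charDegrees S) hS.one_le (fun d h => ?_) (fun d h => ?_) (ab_props hS).1
  · rw [hd] at h
    obtain ⟨χ, rfl⟩ := h
    exact h1 χ
  · rw [hd]
    exact h2 d h

end Cfsg.Agent.Block.SzDeg
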