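import Cfsg.Agent.Lib.Block.SuzukiDegree.Borel
import Cfsg.Agent.Lib.Block.ClassMul
import Cfsg.Agent.Lib.Char.Constituent
import Mathlib.GroupTheory.FiniteAbelian.Duality
import Mathlib.Analysis.Complex.Polynomial.Basic

/-!
The characters of the Suzuki group seen from the point stabiliser: the trivial one, the one of
degree `q ^ 2`, and those of degree `q ^ 2 + 1`; all others vanish on the torus.
-/

set_option autoImplicit false

namespace Cfsg.Agent.Block.SzDeg

open scoped ComplexConjugate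
open Cfsg Cfsg.Agent.Suz Cfsg.Agent.Char
open Cfsg.Agent.Block.SL2Char (cv cv_mul cv_one cv_inv conj_cv sum_mul_conj_cv)

variable {F : Type*} [Field F] {m : ℕ} [Fintype F] [DecidableEq F] (hS : SzField F m)
variable [Fintype ↥(Cfsg.Sz F m)]

theorem inv_inv' (l : Fˣ →* ℂˣ) : l⁻¹⁻¹ = l := MonoidHom.ext fun x => inv_inv (l x)

theorem one_inv' : (1 : Fˣ →* ℂˣ)⁻¹ = 1 := MonoidHom.ext fun _ => inv_one


/-- The difference of the permutation character and the trivial one. -/
noncomputable def stF : ↥(Cfsg.Sz F m) → ℂ := psi hS 1 - fun _ => 1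

include hS in
theorem stF_one : stF hS 1 = (((2 ^ (2 * m + 1)) ^ 2 : ℕ) : ℂ) := by
  rw [stF, Pi.sub_apply, psi_one]
  push_cast
  ring

theorem stF_irr : IsIrrCharacter ↥(Cfsg.Sz F m) (stF hS) := by
  classical
  have hgen : IsGeneralizedCharacter ↥(Cfsg.Sz F m) (stF hS) :=
    IsGenChar.sub (IsGenChar.of_isCharacter (isCharacter_psi hS 1)) (IsGenChar.of_isCharacter IsChar.one)
  have h1 := psi_inner_one hS 1
  rw [if_pos rfl] at h1
  have h2 : classInner (psi hS 1) (fun _ : ↥(Cfsg.Sz F m) => (1 : ℂ)) = 1 := by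
    rw [← classInner_conj_symm, h1, map_one]
  have hn : classInner (stF hS) (stF hS) = 1 := by
    rw [stF, classInner_sub_left, classInner_sub_right, classInner_sub_right, psi_inner hS 1 1, h1, h2,
      classInner_self_irr isIrr_one, if_pos rfl, if_pos one_inv'.symm]
    norm_num
  rcases IsGenChar.norm_one hgen hn with h | h
  · exact h
  · obtain ⟨n, hn0, hn1⟩ := IsIrr.one_eq_pos h
    rw [Pi.neg_apply, stF_one hS] at hn1
    have h3 : ((((2 ^ (2 * m + 1)) ^ 2 : ℕ) : ℂ)) + (n : ℂ) = 0 := by rw [← hn1]; ring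
    rw [← Nat.cast_add, Nat.cast_eq_zero] at h3
    omega

/-- The trivial character. -/
noncomputable def triv : IrrCharacter ↥(Cfsg.Sz F m) := ⟨fun _ => 1, isIrr_one⟩

/-- The character of degree `q ^ 2`. -/
noncomputable def stIrr : IrrCharacter ↥(Cfsg.Sz F m) := ⟨stF hS, stF_irr hS⟩

include hS in
theorem eq_inv_iff (l : Fˣ →* ℂˣ) : l = l⁻¹ ↔ l = 1 := by
  refine ⟨fun h => MonoidHom.ext fun x => ?_, fun h => by rw [h, one_inv']⟩
  have h1 : l x * l x = 1 := by
    conv_lhs => arg 2; rw [h]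
    rw [MonoidHom.inv_apply, mul_inv_cancel]
  have h2 : l x ^ Nat.card Fˣ = 1 := by rw [← map_pow, pow_card_eq_one', map_one]
  rw [MonoidHom.one_apply, ← orderOf_eq_one_iff]
  exact Nat.eq_one_of_dvd_coprimes (Nat.coprime_two_left.2 (odd_card_units hS))
    (orderOf_dvd_of_pow_eq_one (by rw [sq]; exact h1)) (orderOf_dvd_of_pow_eq_one h2)

theorem psi_irr {l : Fˣ →* ℂˣ} (hl : l ≠ 1) : IsIrrCharacter ↥(Cfsg.Sz F m) (psi hS l) := by
  classical
  refine IsChar.irr_of_norm_one (isCharacter_psi hS l) ?_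
  rw [psi_inner, if_pos rfl, if_neg fun h => hl ((eq_inv_iff hS l).1 h), add_zero]

theorem psi_eq_iff {l k : Fˣ →* ℂˣ} (hl : l ≠ 1) (hk : k ≠ 1) :
    psi hS l = psi hS k ↔ k = l ∨ k = l⁻¹ := by
  classical
  have hi := psi_inner hS l k
  constructor
  · intro h
    rw [← h, classInner_self_irr (psi_irr hS hl)] at hi
    by_contra hne
    push Not at hne
    rw [if_neg fun e => hne.1 e.symm, if_neg fun e => hne.2 (by rw [e, inv_inv']), add_zero] at hi
    exact one_ne_zero hi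
  · intro h
    by_contra hne
    rw [classInner_irr_ne (psi_irr hS hl) (psi_irr hS hk) hne] at hi
    rcases h with rfl | rfl
    · rw [if_pos rfl, if_neg fun e => hl ((eq_inv_iff hS k).1 e), add_zero] at hi
      exact zero_ne_one hi
    · rw [if_neg fun e => hl ((eq_inv_iff hS l).1 e), if_pos (inv_inv' l).symm, zero_add] at hi
      exact zero_ne_one hi

/-- The three kinds of characters that are not zero on the torus. -/
structure Known (B : Finset (IrrCharacter ↥(Cfsg.Sz F m))) : Prop where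
  card : 2 * B.card + 2 = 2 ^ (2 * m + 1)
  deg : ∀ ψ ∈ B, (ψ : ↥(Cfsg.Sz F m) → ℂ) 1 = (((2 ^ (2 * m + 1)) ^ 2 + 1 : ℕ) : ℂ)
  fpf : ∀ ψ ∈ B, ∀ g, FPF m g → (ψ : ↥(Cfsg.Sz F m) → ℂ) g = 0
  rest : ∀ χ : IrrCharacter ↥(Cfsg.Sz F m), χ ≠ triv → χ ≠ stIrr hS → χ ∉ B →
    (2 ^ (2 * m + 1) - 1) ∣ charDegree (χ : ↥(Cfsg.Sz F m) → ℂ)

include hS in
theorem exists_known : ∃ B, Known hS B := by
  classical
  letI : Fintype (Fˣ →* ℂˣ) := Fintype.ofFinite _
  letI : Fintype (borel m F) := Fintype.ofFinite _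
  set L : Finset (Fˣ →* ℂˣ) := Finset.univ.filter (fun l => l ≠ 1) with hL
  have hmem : ∀ l ∈ L, l ≠ 1 := fun l h => (Finset.mem_filter.1 h).2
  set f : L → IrrCharacter ↥(Cfsg.Sz F m) := fun l => ⟨psi hS l.1, psi_irr hS (hmem _ l.2)⟩ with hf
  refine ⟨Finset.univ.image f, ?_, ?_, ?_, ?_⟩
  · have hq := one_lt_q hS
    have hcount : Fintype.card L + 2 = 2 ^ (2 * m + 1) := by
      haveI : NeZero (Monoid.exponent Fˣ) := ⟨Monoid.exponent_ne_zero_of_finite⟩
      rw [Fintype.card_coe, hL, Finset.filter_ne', Finset.card_erase_of_mem (Finset.mem_univ _),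
        Finset.card_univ, ← Nat.card_eq_fintype_card,
        CommGroup.card_monoidHom_of_hasEnoughRootsOfUnity Fˣ ℂ, Nat.card_units,
        Nat.card_eq_fintype_card, hS.card]
      omega
    have hfib : ∀ ψ ∈ Finset.univ.image f,
        (Finset.univ.filter fun l => f l = ψ).card = 2 := by
      intro ψ hψ
      obtain ⟨l, -, rfl⟩ := Finset.mem_image.1 hψ
      have hl := hmem _ l.2
      have hli : l.1⁻¹ ≠ 1 := fun e => hl (by rw [← inv_inv' l.1, e, one_inv'])
      have hliL : l.1⁻¹ ∈ L := Finset.mem_filter.2 ⟨Finset.mem_univ _, hli⟩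
      rw [show (Finset.univ.filter fun k => f k = f l) = {l, ⟨l.1⁻¹, hliL⟩} from by
        ext k
        simp only [Finset.mem_filter, Finset.mem_univ, true_and, Finset.mem_insert,
          Finset.mem_singleton, hf, Subtype.ext_iff]
        rw [eq_comm, psi_eq_iff hS hl (hmem _ k.2)]]
      exact Finset.card_pair fun e => hl ((eq_inv_iff hS _).1 (congrArg Subtype.val e))
    have h2 := Finset.card_eq_sum_card_image f (Finset.univ : Finset L)
    rw [Finset.sum_congr rfl hfib, Finset.sum_const, smul_eq_mul, Finset.card_univ] at h2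
    omega
  · intro ψ hψ
    obtain ⟨l, -, rfl⟩ := Finset.mem_image.1 hψ
    exact psi_one hS l.1
  · intro ψ hψ g hg
    obtain ⟨l, -, rfl⟩ := Finset.mem_image.1 hψ
    exact psi_FPF hS l.1 hg
  intro χ h1 h2 h3
  have horth : ∀ k : Fˣ →* ℂˣ, classInner (χ : ↥(Cfsg.Sz F m) → ℂ) (psi hS k) = 0 := by
    intro k
    by_cases hk : k = 1
    · subst hk
      rw [show psi hS 1 = (fun _ => (1 : ℂ)) + stF hS from by rw [stF]; abel, classInner_add_right,
        classInner_irr_ne χ.2 isIrr_one (fun e => h1 (Subtype.ext e)),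
        classInner_irr_ne χ.2 (stF_irr hS) (fun e => h2 (Subtype.ext e)), add_zero]
    · refine classInner_irr_ne χ.2 (psi_irr hS hk) fun e => h3 (Finset.mem_image.2 ?_)
      exact ⟨⟨k, Finset.mem_filter.2 ⟨Finset.mem_univ _, hk⟩⟩, Finset.mem_univ _, Subtype.ext e.symm⟩
  set T : Fˣ → ℂ := fun z => ∑ p : F × F, (χ : ↥(Cfsg.Sz F m) → ℂ) (bEquiv hS (p, z)) with hT
  have hT0 : T = 0 := by
    refine eq_zero_of_orth_irr (fun a b => by rw [mul_comm b a, mul_inv_cancel_right]) fun θ hθ => ?_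
    obtain ⟨k, hk⟩ := linearHom_of_isCharacter (IsIrr.isCharacter hθ)
      (IsIrr.one_of_comm (fun a b => mul_comm a b) hθ)
    have hk' : θ = fun z => (k z : ℂ) := hk
    have e := horth k
    rw [psi, classInner_indFun_right _ _ (IsIrr.classFun χ.2), classInner] at e
    have e' := (mul_eq_zero.1 e).resolve_left (inv_ne_zero (Nat.cast_ne_zero.2 Nat.card_pos.ne'))
    rw [← Equiv.sum_comp (bEquiv hS), Fintype.sum_prod_type, Finset.sum_comm] at e'
    rw [classInner, hk', mul_eq_zero]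
    right
    rw [← e']
    refine Finset.sum_congr rfl fun z _ => ?_
    rw [hT, Finset.sum_mul]
    refine Finset.sum_congr rfl fun p _ => ?_
    show _ = _ * conj (cv k (pr hS (bEquiv hS (p, z))))
    rw [pr_bEquiv]
  have hzero : ∀ z : Fˣ, z ≠ 1 → (χ : ↥(Cfsg.Sz F m) → ℂ) (hTor hS z) = 0 := by
    intro z hz
    have e := congrFun hT0 z
    rw [hT, Pi.zero_apply] at e
    simp only at e
    rw [Finset.sum_congr rfl (g := fun _ => (χ : ↥(Cfsg.Sz F m) → ℂ) (hTor hS z)) (fun p _ => by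
      obtain ⟨v, -, hv⟩ := exists_unip_conj hS (b := bEquiv hS (p, z)) (pr_bEquiv hS (p, z)) hz
      rw [hv, IsIrr.classFun χ.2 (hTor hS z) v]), Finset.sum_const, nsmul_eq_mul] at e
    exact (mul_eq_zero.1 e).resolve_left (Nat.cast_ne_zero.2 (Finset.card_pos.2 ⟨(0, 0), Finset.mem_univ _⟩).ne')
  obtain ⟨n, hn⟩ := IsChar.classInner_nat (IsChar.comp (torHom hS) (IsIrr.isCharacter χ.2)) IsChar.one
  rw [classInner, Fintype.sum_eq_single 1 (fun z hz => by
    show (χ : ↥(Cfsg.Sz F m) → ℂ) (hTor hS z) * _ = 0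
    rw [hzero z hz, zero_mul]), map_one, map_one, mul_one, charDeg_spec' χ, Nat.card_units,
    Nat.card_eq_fintype_card, hS.card,
    inv_mul_eq_iff_eq_mul₀ (Nat.cast_ne_zero.2 (by have := one_lt_q hS; omega)), ← Nat.cast_mul,
    Nat.cast_inj] at hn
  exact ⟨n, hn⟩

end Cfsg.Agent.Block.SzDeg
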