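import Cfsg.Agent.Lib.Block.SuzukiDegree.Known
import Cfsg.Agent.Lib.Block.SuzukiDegree.Exceptional
import Cfsg.Agent.Lib.Block.SuzukiDegree.Arith
import Cfsg.Agent.Lib.Lie.Sz.Tori

/-!
The irreducible character degrees of the Suzuki groups.
-/

set_option autoImplicit false

namespace Cfsg.Agent.Block.SzDeg

open scoped ComplexConjugate
open Cfsg Cfsg.Agent.Suz Cfsg.Agent.Char Cfsg.Agent.Char.FrobTI

variable {F : Type*} [Field F] {m : ℕ} [Fintype F] [DecidableEq F] (hS : SzField F m)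
variable [Fintype ↥(Cfsg.Sz F m)]

set_option quotPrecheck false in
local notation "CS" x => Subgroup.centralizer ({x} : Set ↥(Cfsg.Sz F m))

include hS in
/-- The hypotheses on a torus without fixed points. -/
theorem torus_data {x : ↥(Cfsg.Sz F m)} (hx : FPF m x)
    (hN : Nat.card (Subgroup.normalizer ((CS x) : Set ↥(Cfsg.Sz F m))) = 4 * Nat.card (CS x)) :
    (∀ g, g ∉ Subgroup.normalizer ((CS x) : Set ↥(Cfsg.Sz F m)) → ∀ k ∈ (CS x),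
      g * k * g⁻¹ ∈ (CS x) → k = 1) ∧
    (CS x) < Subgroup.normalizer ((CS x) : Set ↥(Cfsg.Sz F m)) ∧
    (∀ k ∈ (CS x), k ≠ 1 → Subgroup.centralizer ({k} : Set ↥(Cfsg.Sz F m)) ≤ (CS x)) ∧
    (∀ a ∈ (CS x), ∀ b ∈ (CS x), a * b = b * a) ∧ (KN (CS x)).index = 4 := by
  refine ⟨fun g hg k hk hgk => by_contra fun h1 => hg (FPF.TI hS hx g k hk h1 hgk), ?_,
    fun k hk hk1 => (FPF.cent hS hx hk hk1).le, ?_, ?_⟩
  · refine lt_of_le_of_ne Subgroup.le_normalizer fun h => ?_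
    have h5 := FPF.five_le hS hx
    rw [← h] at hN
    omega
  · intro a ha b hb
    haveI := isCyclic_centralizer hS hx
    exact congrArg Subtype.val (IsCyclic.commutative.is_comm.comm (⟨a, ha⟩ : (CS x)) ⟨b, hb⟩)
  · have h := (KN (CS x)).card_mul_index
    rw [hN, Nat.card_congr (Subgroup.subgroupOfEquivOfLe
      (Subgroup.le_normalizer (H := (CS x)))).toEquiv, mul_comm 4] at h
    exact Nat.eq_of_mul_eq_mul_left Nat.card_pos h

omit [Field F] [Fintype F] [DecidableEq F] in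
/-- A value that is constant on the nontrivial elements of a subgroup is congruent to the degree. -/
theorem dvd_deg_sub {G : Type*} [Group G] [Fintype G] (K : Subgroup G) (χ : IrrCharacter G) {v : ℤ}
    (hv : ∀ k ∈ K, k ≠ 1 → (χ : G → ℂ) k = (v : ℂ)) :
    (Nat.card K : ℤ) ∣ (charDegree (χ : G → ℂ) : ℤ) - v := by
  classical
  letI : Fintype K := Fintype.ofFinite _
  obtain ⟨n, hn⟩ := IsChar.classInner_nat (IsChar.res (IsIrr.isCharacter χ.2) K) IsChar.one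
  rw [classInner, Finset.sum_congr rfl (g := fun k : K =>
      (if k = 1 then ((charDegree (χ : G → ℂ) : ℂ) - v) else 0) + (v : ℂ)) (fun k _ => by
    rw [map_one, mul_one]
    by_cases hk : k = 1
    · rw [if_pos hk, hk]; show (χ : G → ℂ) 1 = _; rw [charDeg_spec' χ]; ring
    · rw [if_neg hk, zero_add]; exact hv k k.2 fun e => hk (Subtype.ext e)),
    Finset.sum_add_distrib, Finset.sum_ite_eq', if_pos (Finset.mem_univ _), Finset.sum_const,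
    Finset.card_univ, nsmul_eq_mul, ← Nat.card_eq_fintype_card,
    inv_mul_eq_iff_eq_mul₀ (Nat.cast_ne_zero.2 Nat.card_pos.ne')] at hn
  refine ⟨(n : ℤ) - v, ?_⟩
  apply Int.cast_injective (α := ℂ)
  push_cast
  linear_combination hn

omit [Field F] [Fintype F] [DecidableEq F] in
/-- A multiple of `b` congruent to zero modulo a number prime to it. -/
theorem dvd_part {a k : ℤ} {b : ℕ} {c : ℕ} (hc : Nat.Coprime b c) (h : (b : ℤ) ∣ (c : ℤ) * a - k) (hk : k = 0) :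
    (b : ℤ) ∣ a := by
  subst hk
  rw [sub_zero] at h
  exact Int.dvd_of_dvd_mul_right_of_gcd_one h (by rw [Int.gcd_natCast_natCast]; exact hc)

omit [Field F] [Fintype F] [DecidableEq F] in
/-- The degree read off from the value. -/
theorem charDegree_of {G : Type*} [Group G] {χ : G → ℂ} {n : ℕ} (h : χ 1 = (n : ℂ)) : charDegree χ = n := by
  simp [charDegree, h]

section

set_option quotPrecheck false in
local notation "qq" => (2 ^ (2 * m + 1) : ℕ)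
set_option quotPrecheck false in
local notation "aa" => (2 ^ (2 * m + 1) + 2 ^ (m + 1) + 1 : ℕ)
set_option quotPrecheck false in
local notation "bb" => (2 ^ (2 * m + 1) - 2 ^ (m + 1) + 1 : ℕ)

variable (m F) in
/-- All degrees, and every one of them occurs. -/
def DegList [Fintype ↥(Cfsg.Sz F m)] : Prop :=
  (∀ χ : IrrCharacter ↥(Cfsg.Sz F m), charDegree (χ : ↥(Cfsg.Sz F m) → ℂ) ∈
      ({1, qq ^ 2, qq ^ 2 + 1, (qq - 1) * aa, (qq - 1) * bb, (qq - 1) * 2 ^ m} : Set ℕ)) ∧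
    ∀ d ∈ ({qq ^ 2, qq ^ 2 + 1, (qq - 1) * aa, (qq - 1) * bb, (qq - 1) * 2 ^ m} : Set ℕ),
      ∃ χ : IrrCharacter ↥(Cfsg.Sz F m), charDegree (χ : ↥(Cfsg.Sz F m) → ℂ) = d

/-- The two tori, the known characters. -/
structure Setup where
  x : ↥(Cfsg.Sz F m)
  y : ↥(Cfsg.Sz F m)
  hxF : FPF m x
  hxa : Nat.card (CS x) = aa
  hxN : Nat.card (Subgroup.normalizer ((CS x) : Set ↥(Cfsg.Sz F m))) = 4 * Nat.card (CS x)
  hyF : FPF m y
  hyb : Nat.card (CS y) = bb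
  hyN : Nat.card (Subgroup.normalizer ((CS y) : Set ↥(Cfsg.Sz F m))) = 4 * Nat.card (CS y)
  B : Finset (IrrCharacter ↥(Cfsg.Sz F m))
  hB : Known hS B

include hS in
theorem exists_setup : Nonempty (Setup hS) := by
  obtain ⟨x, y, ⟨hxF, hxa, hxN⟩, ⟨hyF, hyb, hyN⟩, -⟩ := exists_tori hS
  obtain ⟨B, hB⟩ := exists_known hS
  exact ⟨⟨x, y, hxF, hxa, hxN, hyF, hyb, hyN, B, hB⟩⟩

include hS in
theorem arith_facts : aa * bb = qq ^ 2 + 1 ∧ Nat.Coprime aa (qq - 1) ∧ Nat.Coprime bb (qq - 1) ∧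
    5 ≤ bb ∧ 2 * 2 ^ (m + 1) ≤ qq ∧ 4 ≤ 2 ^ (m + 1) ∧ (2 ^ (m + 1)) ^ 2 = 2 * qq := by
  obtain ⟨hprod, -, hb5⟩ := ab_props hS
  have hm1 := hS.one_le
  refine ⟨hprod, (dvd_coprime (m := m) (hprod ▸ dvd_mul_right _ _)).2,
    (dvd_coprime (m := m) (hprod ▸ dvd_mul_left _ _)).2, hb5, ?_, ?_, ?_⟩
  · rw [← pow_succ']; exact Nat.pow_le_pow_right (by omega) (by omega)
  · exact (show 4 = 2 ^ 2 from rfl) ▸ Nat.pow_le_pow_right (by omega) (by omega)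
  · rw [← pow_mul, ← pow_succ']; ring_nf

theorem st_fpf {g : ↥(Cfsg.Sz F m)} (hg : FPF m g) : (stIrr hS : ↥(Cfsg.Sz F m) → ℂ) g = -1 := by
  show psi hS 1 g - 1 = -1
  rw [psi_FPF hS 1 hg, zero_sub]

include hS in
theorem hoff (g u : ↥(Cfsg.Sz F m)) (hu : FPF m u) (hg : g = 1 ∨ Nat.card (CS g) ≠ Nat.card (CS u))
    (z : ↥(Cfsg.Sz F m)) (hz : z⁻¹ * g * z ∈ (CS u)) : z⁻¹ * g * z = 1 := by
  rcases hg with rfl | hg
  · group
  by_contra hne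
  refine hg ?_
  rw [← card_centralizer_conj z⁻¹ g, inv_inv, FPF.cent hS hu hz hne]

variable {hS}
variable (D : Setup hS)

open Classical in
/-- The characters vanishing on the torus. -/
noncomputable def Setup.rest : Finset (IrrCharacter ↥(Cfsg.Sz F m)) :=
  Finset.univ \ insert triv (insert (stIrr hS) D.B)

/-- The degree divided by `q - 1`. -/
noncomputable def cof (χ : IrrCharacter ↥(Cfsg.Sz F m)) : ℤ :=
  ((charDegree (χ : ↥(Cfsg.Sz F m) → ℂ) / (qq - 1) : ℕ) : ℤ)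

theorem Setup.mem_rest (χ : IrrCharacter ↥(Cfsg.Sz F m)) :
    χ ∈ D.rest ↔ χ ≠ triv ∧ χ ≠ stIrr hS ∧ χ ∉ D.B := by
  classical
  simp [Setup.rest, and_assoc]

theorem Setup.split (f : IrrCharacter ↥(Cfsg.Sz F m) → ℂ) :
    ∑ χ, f χ = f triv + f (stIrr hS) + ∑ χ ∈ D.B, f χ + ∑ χ ∈ D.rest, f χ := by
  classical
  have hq := one_lt_q hS
  have h2 := Nat.one_lt_pow two_ne_zero (show 1 < qq by omega)
  have hts : (triv : IrrCharacter ↥(Cfsg.Sz F m)) ≠ stIrr hS := by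
    intro e
    have h : (1 : ℂ) = stF hS 1 :=
      congrArg (fun ψ : IrrCharacter ↥(Cfsg.Sz F m) => (ψ : ↥(Cfsg.Sz F m) → ℂ) 1) e
    rw [stF_one hS, eq_comm, Nat.cast_eq_one] at h
    omega
  have htB : (triv : IrrCharacter ↥(Cfsg.Sz F m)) ∉ D.B := by
    intro h
    have h' := D.hB.deg _ h
    rw [show (triv : IrrCharacter ↥(Cfsg.Sz F m)).1 1 = (1 : ℂ) from rfl, eq_comm, Nat.cast_eq_one] at h'
    omega
  have hsB : stIrr hS ∉ D.B := by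
    intro h
    have h' := D.hB.deg _ h
    rw [show (stIrr hS).1 1 = stF hS 1 from rfl, stF_one hS, Nat.cast_inj] at h'
    omega
  rw [Setup.rest, ← Finset.sum_sdiff (Finset.subset_univ (insert triv (insert (stIrr hS) D.B))),
    Finset.sum_insert (by simp [hts, htB]), Finset.sum_insert hsB]
  ring

variable {D}

theorem Setup.deg {χ : IrrCharacter ↥(Cfsg.Sz F m)} (hχ : χ ∈ D.rest) :
    (charDegree (χ : ↥(Cfsg.Sz F m) → ℂ) : ℤ) = ((qq - 1 : ℕ) : ℤ) * cof χ := by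
  obtain ⟨h1, h2, h3⟩ := (D.mem_rest χ).1 hχ
  rw [cof, ← Nat.cast_mul, Nat.mul_div_cancel' (D.hB.rest χ h1 h2 h3)]

theorem Setup.val1 {χ : IrrCharacter ↥(Cfsg.Sz F m)} (hχ : χ ∈ D.rest) :
    (χ : ↥(Cfsg.Sz F m) → ℂ) 1 = ((qq - 1 : ℕ) : ℂ) * (cof χ : ℂ) := by
  rw [charDeg_spec' χ]
  exact_mod_cast D.deg hχ

theorem Setup.pos {χ : IrrCharacter ↥(Cfsg.Sz F m)} (hχ : χ ∈ D.rest) : 0 < cof χ := by
  have h := D.deg hχ
  have hp : (0 : ℤ) < charDegree (χ : ↥(Cfsg.Sz F m) → ℂ) := by exact_mod_cast charDeg_pos χ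
  rw [h] at hp
  exact pos_of_mul_pos_right hp (by positivity)

variable (D)

theorem Setup.R11 : 2 * ∑ χ ∈ D.rest, cof χ ^ 2 = (qq : ℤ) * ((qq : ℤ) ^ 2 - 1) := by
  classical
  have hq := one_lt_q hS
  have h := sum_degree_sq (G := ↥(Cfsg.Sz F m))
  rw [D.split, card_Sz hS, show (stIrr hS).1 1 = stF hS 1 from rfl, stF_one hS,
    Finset.sum_congr rfl (fun χ (hχ : χ ∈ D.B) => by rw [D.hB.deg χ hχ]), Finset.sum_const,
    nsmul_eq_mul, Finset.sum_congr rfl (fun χ (hχ : χ ∈ D.rest) => by rw [D.val1 hχ, mul_pow]),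
    ← Finset.mul_sum, show (triv : IrrCharacter ↥(Cfsg.Sz F m)).1 1 = (1 : ℂ) from rfl] at h
  have hBc : 2 * (D.B.card : ℂ) + 2 = ((qq : ℕ) : ℂ) := by exact_mod_cast D.hB.card
  generalize qq = q at hq h hBc ⊢
  rw [Nat.cast_mul, Nat.cast_mul, Nat.cast_add, Nat.cast_pow, Nat.cast_one,
    Nat.cast_sub (by omega : 1 ≤ q), Nat.cast_one] at h
  apply Int.cast_injective (α := ℂ)
  push_cast
  refine mul_left_cancel₀ (pow_ne_zero 2 (show ((q : ℂ) - 1) ≠ 0 from sub_ne_zero.2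
    (by exact_mod_cast (show q ≠ 1 by omega)))) ?_
  linear_combination 2 * h - ((q : ℂ) ^ 2 + 1) ^ 2 * hBc

theorem Setup.R1 {g : ↥(Cfsg.Sz F m)} (hg : FPF m g) :
    ∑ χ ∈ D.rest, (cof χ : ℂ) * (χ : ↥(Cfsg.Sz F m) → ℂ) g = ((qq : ℕ) : ℂ) + 1 := by
  classical
  have hq := one_lt_q hS
  have h := regular_expansion (G := ↥(Cfsg.Sz F m)) g
  rw [if_neg hg.ne_one, D.split, show (stIrr hS).1 1 = stF hS 1 from rfl, stF_one hS, st_fpf hS hg,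
    Finset.sum_eq_zero (s := D.B) (fun χ hχ => by rw [D.hB.fpf χ hχ g hg, mul_zero]), add_zero,
    Finset.sum_congr rfl (fun χ (hχ : χ ∈ D.rest) => by rw [D.val1 hχ, mul_assoc]), ← Finset.mul_sum,
    show (triv : IrrCharacter ↥(Cfsg.Sz F m)).1 1 = (1 : ℂ) from rfl,
    show (triv : IrrCharacter ↥(Cfsg.Sz F m)).1 g = (1 : ℂ) from rfl] at h
  generalize qq = q at hq h ⊢
  rw [Nat.cast_pow, Nat.cast_sub (by omega : 1 ≤ q), Nat.cast_one] at h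
  refine mul_left_cancel₀ (show ((q : ℂ) - 1) ≠ 0 from sub_ne_zero.2
    (by exact_mod_cast (show q ≠ 1 by omega))) ?_
  linear_combination h

theorem Setup.Rcol (g h : ↥(Cfsg.Sz F m)) (hg : FPF m g) :
    ∑ χ ∈ D.rest, (χ : ↥(Cfsg.Sz F m) → ℂ) g * conj ((χ : ↥(Cfsg.Sz F m) → ℂ) h) =
    (open Classical in if IsConj g h then (Nat.card (CS h) : ℂ) else 0) - 1 +
      conj ((stIrr hS : ↥(Cfsg.Sz F m) → ℂ) h) := by
  classical
  have e := sum_irr_mul_conj (G := ↥(Cfsg.Sz F m)) g h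
  rw [D.split, st_fpf hS hg,
    Finset.sum_eq_zero (s := D.B) (fun χ hχ => by rw [D.hB.fpf χ hχ g hg, zero_mul]), add_zero,
    show (triv : IrrCharacter ↥(Cfsg.Sz F m)).1 g = (1 : ℂ) from rfl,
    show (triv : IrrCharacter ↥(Cfsg.Sz F m)).1 h = (1 : ℂ) from rfl, map_one] at e
  by_cases hc : IsConj g h <;> simp only [hc, if_true, if_false] at e ⊢ <;> linear_combination e

theorem Setup.Rnorm {g : ↥(Cfsg.Sz F m)} (hg : FPF m g) :
    ∑ χ ∈ D.rest, (χ : ↥(Cfsg.Sz F m) → ℂ) g * conj ((χ : ↥(Cfsg.Sz F m) → ℂ) g) =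
      (Nat.card (CS g) : ℂ) - 2 := by
  classical
  rw [D.Rcol g g hg, if_pos (IsConj.refl g), st_fpf hS hg, map_neg, map_one]
  ring

theorem Setup.exc_rest {u : ↥(Cfsg.Sz F m)} (hu : FPF m u) (Eu : ExcData (CS u) 4) :
    ∀ ψ ∈ Eu.E, ψ ∈ D.rest := by
  intro ψ hψ
  rw [D.mem_rest]
  refine ⟨?_, ?_, ?_⟩
  · rintro rfl; exact Eu.notConst _ hψ ⟨1, fun k _ _ => by simp [triv]⟩
  · rintro rfl
    refine Eu.notConst _ hψ ⟨-1, fun k hk hk1 => ?_⟩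
    rw [st_fpf hS (FPF.of_comm hS hu (Subgroup.mem_centralizer_singleton_iff.1 hk) hk1)]
    simp
  · intro hB'
    refine Eu.notConst _ hψ ⟨0, fun k hk hk1 => ?_⟩
    rw [D.hB.fpf _ hB' k (FPF.of_comm hS hu (Subgroup.mem_centralizer_singleton_iff.1 hk) hk1)]
    simp

variable {D}

theorem Setup.exc_cof {u : ↥(Cfsg.Sz F m)} (hu : FPF m u) (Eu : ExcData (CS u) 4)
    {ψ φ : IrrCharacter ↥(Cfsg.Sz F m)} (hψ : ψ ∈ Eu.E) (hφ : φ ∈ Eu.E) (D : Setup hS) :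
    cof ψ = cof φ := by
  have h := Eu.outside ψ hψ φ hφ 1 (fun z _ => by group)
  rw [D.val1 (D.exc_rest hu Eu ψ hψ), D.val1 (D.exc_rest hu Eu φ hφ)] at h
  exact Int.cast_inj.1 (mul_left_cancel₀ (Nat.cast_ne_zero.2 (by have := one_lt_q hS; omega)) h)

theorem Setup.deg_list_of
    (hrest : ∀ χ ∈ D.rest, cof χ = (aa : ℤ) ∨ cof χ = (bb : ℤ) ∨ cof χ = ((2 ^ m : ℕ) : ℤ))
    (hexA : ∃ χ ∈ D.rest, cof χ = (aa : ℤ)) (hexB : ∃ χ ∈ D.rest, cof χ = (bb : ℤ))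
    (hexR : ∃ χ ∈ D.rest, cof χ = ((2 ^ m : ℕ) : ℤ)) : DegList F m := by
  have hq := one_lt_q hS
  have hd : ∀ χ ∈ D.rest, ∀ k : ℕ, cof χ = k → charDegree (χ : ↥(Cfsg.Sz F m) → ℂ) = (qq - 1) * k := by
    intro χ hχ k hk
    have h := D.deg hχ
    rw [hk, ← Nat.cast_mul] at h
    exact_mod_cast h
  have hst : charDegree (stIrr hS : ↥(Cfsg.Sz F m) → ℂ) = qq ^ 2 := charDegree_of (stF_one hS)
  refine ⟨fun χ => ?_, fun d hd' => ?_⟩
  · simp only [Set.mem_insert_iff, Set.mem_singleton_iff]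
    by_cases h1 : χ = triv
    · exact Or.inl (by subst h1; exact charDeg_trivial)
    by_cases h2 : χ = stIrr hS
    · exact Or.inr (Or.inl (by subst h2; exact hst))
    by_cases h3 : χ ∈ D.B
    · exact Or.inr (Or.inr (Or.inl (charDegree_of (D.hB.deg χ h3))))
    have hχ : χ ∈ D.rest := (D.mem_rest χ).2 ⟨h1, h2, h3⟩
    rcases hrest χ hχ with h | h | h
    · exact Or.inr (Or.inr (Or.inr (Or.inl (hd χ hχ _ h))))
    · exact Or.inr (Or.inr (Or.inr (Or.inr (Or.inl (hd χ hχ _ h)))))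
    · exact Or.inr (Or.inr (Or.inr (Or.inr (Or.inr (hd χ hχ _ h)))))
  · simp only [Set.mem_insert_iff, Set.mem_singleton_iff] at hd'
    rcases hd' with rfl | rfl | rfl | rfl | rfl
    · exact ⟨stIrr hS, hst⟩
    · obtain ⟨χ, hχ⟩ : D.B.Nonempty := Finset.card_pos.1 (by have := D.hB.card; omega)
      exact ⟨χ, charDegree_of (D.hB.deg χ hχ)⟩
    · obtain ⟨χ, hχ, h⟩ := hexA; exact ⟨χ, hd χ hχ _ h⟩
    · obtain ⟨χ, hχ, h⟩ := hexB; exact ⟨χ, hd χ hχ _ h⟩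
    · obtain ⟨χ, hχ, h⟩ := hexR; exact ⟨χ, hd χ hχ _ h⟩

end


set_option maxHeartbeats 800000 in
theorem degList_large (hm : 2 ≤ m) (D : Setup hS) : DegList F m := by
  classical
  obtain ⟨x, y, hxF, hxa, hxN, hyF, hyb, hyN, -, -⟩ := id D
  obtain ⟨hTIx, hltx, hCx, habx, hix⟩ := torus_data hS hxF hxN
  obtain ⟨hTIy, hlty, hCy, haby, hiy⟩ := torus_data hS hyF hyN
  obtain ⟨hprod, hacop, hbcop, hb5, h2r, hr4, hr2⟩ := arith_facts hS
  have hq8 := one_lt_q hS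
  set q := 2 ^ (2 * m + 1) with hq
  set r := 2 ^ (m + 1) with hr
  set a := q + r + 1 with ha
  set b := q - r + 1 with hb
  have hr2Z : (r : ℤ) ^ 2 = 2 * q := by exact_mod_cast hr2
  have hr0Z : (0 : ℤ) < r := by exact_mod_cast (show 0 < r by omega)
  have hbZ : (b : ℤ) = (q : ℤ) - r + 1 := by rw [hb]; omega
  have haZ : (a : ℤ) = (q : ℤ) + r + 1 := by rw [ha]; push_cast; ring
  have hx1 : x ≠ 1 := hxF.ne_one
  have hy1 : y ≠ 1 := hyF.ne_one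
  have hxy' : Nat.card (CS x) ≠ Nat.card (CS y) := by rw [hxa, hyb]; omega
  obtain ⟨Ex⟩ := exists_excData (CS x) hTIx hltx hCx habx hix (by rw [hxa]; omega) (by rw [hxa]; omega)
  have hxmem := self_mem_cs hS x
  have hymem := self_mem_cs hS y
  have hExS := D.exc_rest hxF Ex
  choose v hv using fun χ : {χ // χ ∉ Ex.E} => Ex.others χ.1 χ.2
  set vv : IrrCharacter ↥(Cfsg.Sz F m) → ℤ := fun χ => if h : χ ∉ Ex.E then v ⟨χ, h⟩ else 0 with hvv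
  have hvx : ∀ χ, χ ∉ Ex.E → ∀ k ∈ (CS x), k ≠ 1 → (χ : ↥(Cfsg.Sz F m) → ℂ) k = (vv χ : ℂ) := by
    intro χ hχ k hk hk1
    rw [hvv]; simp only [dif_pos hχ]
    exact hv ⟨χ, hχ⟩ k hk hk1
  obtain ⟨ψ₀, hψ₀⟩ : Ex.E.Nonempty := by
    refine Finset.card_pos.1 ?_
    have := Ex.card; rw [hxa] at this; omega
  have hdx : ∀ ψ ∈ Ex.E, cof ψ = cof ψ₀ := fun ψ hψ => Setup.exc_cof hxF Ex hψ hψ₀ D
  have hnx : (Ex.E.card : ℤ) * 4 = (a : ℤ) - 1 := by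
    have := Ex.card; rw [hxa] at this; omega
  have hb25 : 25 ≤ b := by
    have h4r : 4 * r ≤ q := by
      rw [hr, hq, show 4 = 2 ^ 2 from rfl, ← pow_add]; exact Nat.pow_le_pow_right (by omega) (by omega)
    have h32 : 2 ^ 5 ≤ q := by rw [hq]; exact Nat.pow_le_pow_right (by omega) (by omega)
    omega
  obtain ⟨Ey⟩ := exists_excData (CS y) hTIy hlty hCy haby hiy (by rw [hyb]; omega)
    (by rw [hyb]; omega)
  have hny : (Ey.E.card : ℤ) * 4 = (b : ℤ) - 1 := by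
    have := Ey.card; rw [hyb] at this; omega
  have hnx5 : 5 ≤ (Ex.E.card : ℤ) := by omega
  have hny5 : 5 ≤ (Ey.E.card : ℤ) := by omega
  have hEyS := D.exc_rest hyF Ey
  have hcy : ∀ g ∈ (CS y), g ≠ 1 → Nat.card (CS g) = b := fun g hg hg1 => by
    rw [FPF.cent hS hyF hg hg1, hyb]
  have hdisj : Disjoint Ex.E Ey.E := by
    rw [Finset.disjoint_left]
    intro ψ hψx hψy
    have hagree : ∀ φ ∈ Ex.E, ∀ k ∈ (CS y), k ≠ 1 →
        (φ : ↥(Cfsg.Sz F m) → ℂ) k = (ψ : ↥(Cfsg.Sz F m) → ℂ) k := fun φ hφ k hk hk1 =>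
      Ex.outside φ hφ ψ hψx k (hoff hS k x hxF (Or.inr (by rw [hcy k hk hk1, hxa]; omega)))
    obtain ⟨φ, hφ, hne⟩ := Finset.exists_mem_ne (s := Ex.E) (by omega) ψ
    by_cases hφy : φ ∈ Ey.E
    · exact hne (Ey.inj φ hφy ψ hψy fun k hk hk1 => hagree φ hφ k hk hk1)
    · obtain ⟨c, hc⟩ := Ey.others φ hφy
      exact Ey.notConst ψ hψy ⟨c, fun k hk hk1 => by rw [← hagree φ hφ k hk hk1, hc k hk hk1]⟩
  choose w hw using fun χ : {χ // χ ∉ Ey.E} => Ey.others χ.1 χ.2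
  set ww : IrrCharacter ↥(Cfsg.Sz F m) → ℤ := fun χ => if h : χ ∉ Ey.E then w ⟨χ, h⟩ else 0 with hww
  have hwy : ∀ χ, χ ∉ Ey.E → ∀ k ∈ (CS y), k ≠ 1 → (χ : ↥(Cfsg.Sz F m) → ℂ) k = (ww χ : ℂ) := by
    intro χ hχ k hk hk1
    rw [hww]; simp only [dif_pos hχ]
    exact hw ⟨χ, hχ⟩ k hk hk1
  obtain ⟨φ₀, hφ₀⟩ : Ey.E.Nonempty := Finset.card_pos.1 (by omega)
  have hdy : ∀ ψ ∈ Ey.E, cof ψ = cof φ₀ := fun ψ hψ => Setup.exc_cof hyF Ey hψ hφ₀ D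
  have hcx' : ∀ ψ ∈ Ey.E, vv ψ = vv φ₀ := by
    intro ψ hψ
    have h := Ey.outside ψ hψ φ₀ hφ₀ x (hoff hS x y hyF (Or.inr hxy'))
    rw [hvx ψ (Finset.disjoint_right.1 hdisj hψ) x hxmem hx1,
      hvx φ₀ (Finset.disjoint_right.1 hdisj hφ₀) x hxmem hx1] at h
    exact_mod_cast h
  have hcy' : ∀ ψ ∈ Ex.E, ww ψ = ww ψ₀ := by
    intro ψ hψ
    have h := Ex.outside ψ hψ ψ₀ hψ₀ y (hoff hS y x hxF (Or.inr (Ne.symm hxy')))
    rw [hwy ψ (Finset.disjoint_left.1 hdisj hψ) y hymem hy1,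
      hwy ψ₀ (Finset.disjoint_left.1 hdisj hψ₀) y hymem hy1] at h
    exact_mod_cast h
  set W := (D.rest \ Ex.E) \ Ey.E with hW
  have hWmem : ∀ χ ∈ W, χ ∈ D.rest ∧ χ ∉ Ex.E ∧ χ ∉ Ey.E := fun χ hχ => by
    simp only [hW, Finset.mem_sdiff] at hχ
    exact ⟨hχ.1.1, hχ.1.2, hχ.2⟩
  have hEy' : Ey.E ⊆ D.rest \ Ex.E := fun ψ hψ =>
    Finset.mem_sdiff.2 ⟨hEyS ψ hψ, Finset.disjoint_right.1 hdisj hψ⟩
  have hthree : ∀ f : IrrCharacter ↥(Cfsg.Sz F m) → ℂ,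
      ∑ χ ∈ D.rest, f χ = ∑ χ ∈ Ex.E, f χ + ∑ χ ∈ Ey.E, f χ + ∑ χ ∈ W, f χ := by
    intro f
    rw [hW, ← Finset.sum_sdiff (s₁ := Ex.E) (s₂ := D.rest) hExS, ← Finset.sum_sdiff hEy']
    ring
  -- norms
  have hX := D.Rnorm hxF
  rw [hthree, Ex.sumSq x hxmem hx1,
    Finset.sum_congr rfl (g := fun _ => ((vv φ₀ ^ 2 : ℤ) : ℂ)) (fun χ (hχ : χ ∈ Ey.E) => by
      rw [hvx χ (Finset.disjoint_right.1 hdisj hχ) x hxmem hx1, hcx' χ hχ, map_intCast]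
      push_cast; ring),
    Finset.sum_congr rfl (g := fun χ => ((vv χ ^ 2 : ℤ) : ℂ)) (fun χ (hχ : χ ∈ W) => by
      rw [hvx χ (hWmem χ hχ).2.1 x hxmem hx1, map_intCast]; push_cast; ring),
    Finset.sum_const, nsmul_eq_mul, hxa, ← Int.cast_sum, ← Int.cast_natCast (R := ℂ) Ey.E.card,
    ← Int.cast_natCast (R := ℂ) a, ← Int.cast_ofNat (R := ℂ) 2, ← Int.cast_mul, ← Int.cast_add,
    ← Int.cast_add, ← Int.cast_sub, Int.cast_inj] at hX
  have hY := D.Rnorm hyF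
  rw [hthree, Ey.sumSq y hymem hy1,
    Finset.sum_congr rfl (g := fun _ => ((ww ψ₀ ^ 2 : ℤ) : ℂ)) (fun χ (hχ : χ ∈ Ex.E) => by
      rw [hwy χ (Finset.disjoint_left.1 hdisj hχ) y hymem hy1, hcy' χ hχ, map_intCast]
      push_cast; ring),
    Finset.sum_congr rfl (g := fun χ => ((ww χ ^ 2 : ℤ) : ℂ)) (fun χ (hχ : χ ∈ W) => by
      rw [hwy χ (hWmem χ hχ).2.2 y hymem hy1, map_intCast]; push_cast; ring),
    Finset.sum_const, nsmul_eq_mul, hyb, ← Int.cast_sum, ← Int.cast_natCast (R := ℂ) Ex.E.card,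
    ← Int.cast_natCast (R := ℂ) b, ← Int.cast_ofNat (R := ℂ) 2, ← Int.cast_mul, ← Int.cast_add,
    ← Int.cast_add, ← Int.cast_sub, Int.cast_inj] at hY
  have hXq := quad_nonneg (z := Ex.z) (show (2 : ℤ) ≤ Ex.E.card by omega) Ex.sign
  have hYq := quad_nonneg (z := Ey.z) (show (2 : ℤ) ≤ Ey.E.card by omega) Ey.sign
  have hWv : 0 ≤ ∑ χ ∈ W, vv χ ^ 2 := Finset.sum_nonneg fun _ _ => sq_nonneg _
  have hWw : 0 ≤ ∑ χ ∈ W, ww χ ^ 2 := Finset.sum_nonneg fun _ _ => sq_nonneg _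
  push_cast at hX hY
  have hv0 : vv φ₀ = 0 := by
    by_contra hne
    have h1 : (1 : ℤ) ≤ vv φ₀ ^ 2 := by rw [← sq_abs]; exact one_le_pow₀ (Int.one_le_abs hne)
    have h2 : (5 : ℤ) * 1 ≤ (Ey.E.card : ℤ) * vv φ₀ ^ 2 := mul_le_mul hny5 h1 zero_le_one (by omega)
    linarith
  have hw0 : ww ψ₀ = 0 := by
    by_contra hne
    have h1 : (1 : ℤ) ≤ ww ψ₀ ^ 2 := by rw [← sq_abs]; exact one_le_pow₀ (Int.one_le_abs hne)
    have h2 : (5 : ℤ) * 1 ≤ (Ex.E.card : ℤ) * ww ψ₀ ^ 2 := mul_le_mul hnx5 h1 zero_le_one (by omega)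
    linarith
  have hz : Ex.z = 0 := quad_small hnx5 Ex.sign (by rw [hv0] at hX; linarith)
  rw [hv0, hz] at hX
  have hWv2 : ∑ χ ∈ W, vv χ ^ 2 = 2 := by linarith
  -- multiples
  have hdiv : (b : ℤ) ∣ cof ψ₀ := by
    have h := dvd_deg_sub (CS y) ψ₀ (v := ww ψ₀) (hwy ψ₀ (Finset.disjoint_left.1 hdisj hψ₀))
    rw [hyb, D.deg (hExS ψ₀ hψ₀)] at h
    exact dvd_part hbcop h hw0
  have hdiv' : (a : ℤ) ∣ cof φ₀ := by
    have h := dvd_deg_sub (CS x) φ₀ (v := vv φ₀) (hvx φ₀ (Finset.disjoint_right.1 hdisj hφ₀))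
    rw [hxa, D.deg (hEyS φ₀ hφ₀)] at h
    exact dvd_part hacop h hv0
  obtain ⟨j, hj⟩ := hdiv
  obtain ⟨i, hi⟩ := hdiv'
  have hS2 : ∑ χ ∈ D.rest, cof χ ^ 2 = (Ex.E.card : ℤ) * cof ψ₀ ^ 2 + (Ey.E.card : ℤ) * cof φ₀ ^ 2 +
      ∑ χ ∈ W, cof χ ^ 2 := by
    have h := hthree (fun χ => ((cof χ ^ 2 : ℤ) : ℂ))
    rw [Finset.sum_congr rfl (fun χ (hχ : χ ∈ Ex.E) => by rw [hdx χ hχ]),
      Finset.sum_congr rfl (fun χ (hχ : χ ∈ Ey.E) => by rw [hdy χ hχ]), Finset.sum_const,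
      Finset.sum_const, nsmul_eq_mul, nsmul_eq_mul] at h
    apply Int.cast_injective (α := ℂ)
    push_cast at h ⊢
    exact h
  have R11 := D.R11
  rw [hS2, hj, hi] at R11
  have hid : 2 * ((Ex.E.card : ℤ) * (b : ℤ) ^ 2 + (Ey.E.card : ℤ) * (a : ℤ) ^ 2) + 2 * q =
      (q : ℤ) * ((q : ℤ) ^ 2 - 1) := by
    refine mul_left_cancel₀ (show (4 : ℤ) ≠ 0 by norm_num) ?_
    rw [haZ] at hnx ⊢
    rw [hbZ] at hny ⊢
    linear_combination 2 * ((q : ℤ) - r + 1) ^ 2 * hnx + 2 * ((q : ℤ) + r + 1) ^ 2 * hny -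
      4 * ((q : ℤ) + 2) * hr2Z
  have hjpos : 0 < j := by
    have := D.pos (hExS ψ₀ hψ₀); rw [hj] at this; exact pos_of_mul_pos_right this (by positivity)
  have hipos : 0 < i := by
    have := D.pos (hEyS φ₀ hφ₀); rw [hi] at this; exact pos_of_mul_pos_right this (by positivity)
  have hWe : 0 ≤ ∑ χ ∈ W, cof χ ^ 2 := Finset.sum_nonneg fun _ _ => sq_nonneg _
  have hb625 : (625 : ℤ) ≤ (b : ℤ) ^ 2 := by
    have h25 : (25 : ℤ) ≤ b := by exact_mod_cast hb25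
    calc (625 : ℤ) = 25 ^ 2 := by norm_num
      _ ≤ _ := pow_le_pow_left₀ (by norm_num) h25 2
  have ha625 : (625 : ℤ) ≤ (a : ℤ) ^ 2 :=
    hb625.trans (pow_le_pow_left₀ (by positivity) (by omega) 2)
  have hbig1 : (q : ℤ) < (Ex.E.card : ℤ) * (b : ℤ) ^ 2 := by
    have := mul_le_mul_of_nonneg_left hb625 (show (0 : ℤ) ≤ Ex.E.card by omega)
    linarith
  have hbig2 : (q : ℤ) < (Ey.E.card : ℤ) * (a : ℤ) ^ 2 := by
    have := mul_le_mul_of_nonneg_left ha625 (show (0 : ℤ) ≤ Ey.E.card by omega)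
    linarith
  rw [show (Ex.E.card : ℤ) * ((b : ℤ) * j) ^ 2 = (Ex.E.card : ℤ) * (b : ℤ) ^ 2 * j ^ 2 by ring,
    show (Ey.E.card : ℤ) * ((a : ℤ) * i) ^ 2 = (Ey.E.card : ℤ) * (a : ℤ) ^ 2 * i ^ 2 by ring] at R11
  have hA : (0 : ℤ) ≤ (Ex.E.card : ℤ) * (b : ℤ) ^ 2 := by positivity
  have hB' : (0 : ℤ) ≤ (Ey.E.card : ℤ) * (a : ℤ) ^ 2 := by positivity
  have hj1 : j = 1 := by
    by_contra hne
    have h4 : (4 : ℤ) ≤ j ^ 2 := by
      calc (4 : ℤ) = 2 ^ 2 := by norm_num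
        _ ≤ _ := pow_le_pow_left₀ (by norm_num) (by omega) 2
    have := mul_le_mul_of_nonneg_left h4 hA
    have := mul_le_mul_of_nonneg_left (one_le_pow₀ (n := 2) (show (1 : ℤ) ≤ i by omega)) hB'
    linarith
  have hi1 : i = 1 := by
    by_contra hne
    have h4 : (4 : ℤ) ≤ i ^ 2 := by
      calc (4 : ℤ) = 2 ^ 2 := by norm_num
        _ ≤ _ := pow_le_pow_left₀ (by norm_num) (by omega) 2
    have := mul_le_mul_of_nonneg_left h4 hB'
    have := mul_le_mul_of_nonneg_left (one_le_pow₀ (n := 2) (show (1 : ℤ) ≤ j by omega)) hA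
    linarith
  rw [hj1, hi1, one_pow, mul_one, mul_one] at R11
  have hWe2 : ∑ χ ∈ W, cof χ ^ 2 = q := by linarith
  have h1x := D.R1 hxF
  rw [hthree, Finset.sum_congr rfl (fun χ (hχ : χ ∈ Ex.E) => by
      rw [hdx χ hχ, hj, hj1, mul_one]), ← Finset.mul_sum, Ex.sum x hxmem hx1, hz,
    Finset.sum_eq_zero (s := Ey.E) (fun χ hχ => by
      rw [hvx χ (Finset.disjoint_right.1 hdisj hχ) x hxmem hx1, hcx' χ hχ, hv0, Int.cast_zero, mul_zero]),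
    add_zero, Finset.sum_congr rfl (g := fun χ => ((cof χ * vv χ : ℤ) : ℂ))
      (fun χ (hχ : χ ∈ W) => by rw [hvx χ (hWmem χ hχ).2.1 x hxmem hx1]; push_cast; ring),
    ← Int.cast_sum, mul_zero, add_zero, ← Int.cast_natCast (R := ℂ) q, ← Int.cast_one (R := ℂ),
    ← Int.cast_mul, ← Int.cast_add, ← Int.cast_add, Int.cast_inj] at h1x
  have hcs := Finset.sum_mul_sq_le_sq_mul_sq W cof vv
  rw [hWe2, hWv2] at hcs
  have hε : Ex.ε = -1 := by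
    rcases Ex.sign with h | h
    · exfalso
      rw [h] at h1x
      have hle : (q : ℤ) ≤ ∑ χ ∈ W, cof χ * vv χ := by linarith
      have := mul_le_mul hle hle (show (0 : ℤ) ≤ q by omega) (by omega)
      have h8 : 2 * (q : ℤ) < (q : ℤ) * q := mul_lt_mul_of_pos_right (by omega) (by omega)
      rw [sq] at hcs
      linarith
    · exact h
  rw [hε] at h1x
  have hev : ∑ χ ∈ W, cof χ * vv χ = r := by linarith
  obtain ⟨hWne, hWdeg⟩ := rest_large hr2Z hr0Z (fun χ hχ => D.pos (hWmem χ hχ).1) hWv2 hWe2 hev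
  refine Setup.deg_list_of (D := D) (fun χ hχ => ?_) ⟨φ₀, hEyS φ₀ hφ₀, by rw [hi, hi1, mul_one]⟩
    ⟨ψ₀, hExS ψ₀ hψ₀, by rw [hj, hj1, mul_one]⟩ ?_
  · by_cases h4 : χ ∈ Ex.E
    · exact Or.inr (Or.inl (by rw [hdx χ h4, hj, hj1, mul_one]))
    by_cases h5 : χ ∈ Ey.E
    · exact Or.inl (by rw [hdy χ h5, hi, hi1, mul_one])
    · refine Or.inr (Or.inr ?_)
      have h' := hWdeg χ (by simp [hW, hχ, h4, h5])
      rw [hr, pow_succ'] at h'
      push_cast at h' ⊢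
      linarith
  · obtain ⟨χ, hχ⟩ := hWne
    refine ⟨χ, (hWmem χ hχ).1, ?_⟩
    have h' := hWdeg χ hχ
    rw [hr, pow_succ'] at h'
    push_cast at h' ⊢
    linarith

set_option quotPrecheck false in
local notation "CSone" x => Subgroup.centralizer ({x} : Set ↥(Cfsg.Sz F 1))

set_option maxHeartbeats 800000 in
theorem degList_eight (hS : SzField F 1) [Fintype ↥(Cfsg.Sz F 1)] (D : Setup hS) : DegList F 1 := by
  classical
  obtain ⟨x, y, hxF, hxa, hxN, hyF, hyb, hyN, -, -⟩ := id D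
  obtain ⟨hTIx, hltx, hCx, habx, hix⟩ := torus_data hS hxF hxN
  obtain ⟨hTIy, hlty, hCy, haby, hiy⟩ := torus_data hS hyF hyN
  obtain ⟨hprod, hacop, hbcop, hb5, h2r, hr4, hr2⟩ := arith_facts hS
  have hq8 := one_lt_q hS
  set q := 2 ^ (2 * 1 + 1) with hq
  set r := 2 ^ (1 + 1) with hr
  set a := q + r + 1 with ha
  set b := q - r + 1 with hb
  have hr2Z : (r : ℤ) ^ 2 = 2 * q := by exact_mod_cast hr2
  have hr0Z : (0 : ℤ) < r := by exact_mod_cast (show 0 < r by omega)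
  have hbZ : (b : ℤ) = (q : ℤ) - r + 1 := by rw [hb]; omega
  have haZ : (a : ℤ) = (q : ℤ) + r + 1 := by rw [ha]; push_cast; ring
  have hx1 : x ≠ 1 := hxF.ne_one
  have hy1 : y ≠ 1 := hyF.ne_one
  have hxy' : Nat.card (CSone x) ≠ Nat.card (CSone y) := by rw [hxa, hyb]; omega
  obtain ⟨Ex⟩ := exists_excData (CSone x) hTIx hltx hCx habx hix (by rw [hxa]; omega) (by rw [hxa]; omega)
  have hxmem := self_mem_cs hS x
  have hymem := self_mem_cs hS y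
  have hExS := D.exc_rest hxF Ex
  choose v hv using fun χ : {χ // χ ∉ Ex.E} => Ex.others χ.1 χ.2
  set vv : IrrCharacter ↥(Cfsg.Sz F 1) → ℤ := fun χ => if h : χ ∉ Ex.E then v ⟨χ, h⟩ else 0 with hvv
  have hvx : ∀ χ, χ ∉ Ex.E → ∀ k ∈ (CSone x), k ≠ 1 → (χ : ↥(Cfsg.Sz F 1) → ℂ) k = (vv χ : ℂ) := by
    intro χ hχ k hk hk1
    rw [hvv]; simp only [dif_pos hχ]
    exact hv ⟨χ, hχ⟩ k hk hk1
  obtain ⟨ψ₀, hψ₀⟩ : Ex.E.Nonempty := by
    refine Finset.card_pos.1 ?_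
    have := Ex.card; rw [hxa] at this; omega
  have hdx : ∀ ψ ∈ Ex.E, cof ψ = cof ψ₀ := fun ψ hψ => Setup.exc_cof hxF Ex hψ hψ₀ D
  have hnx : (Ex.E.card : ℤ) * 4 = (a : ℤ) - 1 := by
    have := Ex.card; rw [hxa] at this; omega
  have hqv : q = 8 := by rw [hq]; norm_num
  have hrv : r = 4 := by rw [hr]; norm_num
  have hav : a = 13 := by omega
  have hbig : b = 5 := by omega
  have hn3 : (Ex.E.card : ℤ) = 3 := by omega
  choose w hw using fun χ : IrrCharacter ↥(Cfsg.Sz F 1) =>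
    constInt_single (CSone y) hCy haby hiy (by rw [hyb, hbig]) χ
  have hcy' : ∀ ψ ∈ Ex.E, w ψ = w ψ₀ := by
    intro ψ hψ
    have h := Ex.outside ψ hψ ψ₀ hψ₀ y (hoff hS y x hxF (Or.inr (Ne.symm hxy')))
    rw [hw ψ y hymem hy1, hw ψ₀ y hymem hy1] at h
    exact_mod_cast h
  set W := D.rest \ Ex.E with hW
  have hWmem : ∀ χ ∈ W, χ ∈ D.rest ∧ χ ∉ Ex.E := fun χ hχ => Finset.mem_sdiff.1 hχ
  have htwo : ∀ f : IrrCharacter ↥(Cfsg.Sz F 1) → ℂ,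
      ∑ χ ∈ D.rest, f χ = ∑ χ ∈ Ex.E, f χ + ∑ χ ∈ W, f χ := by
    intro f
    rw [hW, ← Finset.sum_sdiff (s₁ := Ex.E) (s₂ := D.rest) hExS, add_comm]
  have hY := D.Rnorm hyF
  rw [htwo, Finset.sum_congr rfl (g := fun _ => ((w ψ₀ ^ 2 : ℤ) : ℂ)) (fun χ (hχ : χ ∈ Ex.E) => by
      rw [hw χ y hymem hy1, hcy' χ hχ, map_intCast]; push_cast; ring),
    Finset.sum_congr rfl (g := fun χ => ((w χ ^ 2 : ℤ) : ℂ)) (fun χ (hχ : χ ∈ W) => by
      rw [hw χ y hymem hy1, map_intCast]; push_cast; ring),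
    Finset.sum_const, nsmul_eq_mul, hyb, hbig, ← Int.cast_sum, ← Int.cast_natCast (R := ℂ) Ex.E.card,
    ← Int.cast_mul, ← Int.cast_add, show ((5 : ℕ) : ℂ) - 2 = ((3 : ℤ) : ℂ) by norm_num, Int.cast_inj,
    hn3] at hY
  have hW0 : 0 ≤ ∑ χ ∈ W, w χ ^ 2 := Finset.sum_nonneg fun _ _ => sq_nonneg _
  obtain ⟨t, ht, ht1⟩ : ∃ t ∈ unip hS, orderOf t = 2 := by
    obtain ⟨t, ht⟩ := exists_prime_orderOf_dvd_card' (G := unip hS) 2
      (by rw [card_unip hS]; norm_num)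
    exact ⟨t, t.2, by rw [Subgroup.orderOf_coe, ht]⟩
  have ht1' : t ≠ 1 := fun e => by rw [e, orderOf_one] at ht1; omega
  have hct : ∀ u : ↥(Cfsg.Sz F 1), FPF 1 u → Nat.card (CSone t) ≠ Nat.card (CSone u) := by
    intro u hu e
    have h2 : 2 ∣ Nat.card (CSone t) := ht1 ▸ Subgroup.orderOf_dvd_natCard _ (self_mem_cs hS t)
    have hd := card_dvd_of_FPF hS (CSone u) fun k hk hk1 =>
      FPF.of_comm hS hu (Subgroup.mem_centralizer_singleton_iff.1 hk) hk1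
    exact (Nat.not_even_iff_odd.2 (dvd_coprime hd).1) (even_iff_two_dvd.2 (e ▸ h2))
  have hw0 : w ψ₀ = 0 := by
    by_contra hne
    have hsq : w ψ₀ ^ 2 = 1 := by
      have h1 : 1 ≤ w ψ₀ ^ 2 := by nlinarith [Int.one_le_abs hne, sq_abs (w ψ₀)]
      linarith
    have hWzero : ∀ χ ∈ W, w χ = 0 := fun χ hχ => by
      have := term_le (f := w) hχ
      exact (pow_eq_zero_iff two_ne_zero).1 (le_antisymm (by linarith) (sq_nonneg _))
    have h := D.Rcol y t hyF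
    rw [if_neg fun e => hct y hyF (by
        obtain ⟨c, hc⟩ := isConj_iff.1 e
        rw [← hc, card_centralizer_conj]),
      show (stIrr hS : ↥(Cfsg.Sz F 1) → ℂ) t = 0 from by
        show psi hS 1 t - 1 = 0
        rw [psi_unip hS 1 ht ht1', sub_self],
      map_zero, htwo, Finset.sum_congr rfl (fun χ (hχ : χ ∈ Ex.E) => by
        rw [hw χ y hymem hy1, hcy' χ hχ,
          Ex.outside χ hχ ψ₀ hψ₀ t (hoff hS t x hxF (Or.inr (hct x hxF)))]),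
      Finset.sum_eq_zero (s := W) (fun χ hχ => by rw [hw χ y hymem hy1, hWzero χ hχ, Int.cast_zero, zero_mul]),
      add_zero, Finset.sum_const, nsmul_eq_mul, show (Ex.E.card : ℂ) = 3 by exact_mod_cast hn3] at h
    have hint : IsIntegral ℤ (conj ((ψ₀ : ↥(Cfsg.Sz F 1) → ℂ) t)) := by
      rw [← IsIrr.apply_inv ψ₀.2]; exact IsChar.isIntegral (IsIrr.isCharacter ψ₀.2) _
    have hint2 : IsIntegral ℤ ((w ψ₀ : ℂ) * conj ((ψ₀ : ↥(Cfsg.Sz F 1) → ℂ) t)) :=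
      isIntegral_algebraMap.mul hint
    have hrat : (w ψ₀ : ℂ) * conj ((ψ₀ : ↥(Cfsg.Sz F 1) → ℂ) t) = algebraMap ℚ ℂ (-1 / 3) := by
      rw [eq_ratCast]; push_cast; linear_combination h / 3
    rw [hrat, isIntegral_algebraMap_iff (algebraMap ℚ ℂ).injective,
      IsIntegrallyClosed.isIntegral_iff] at hint2
    obtain ⟨k, hk⟩ := hint2
    rw [eq_intCast, eq_div_iff (by norm_num : (3 : ℚ) ≠ 0)] at hk
    norm_cast at hk
    omega
  rw [hw0] at hY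
  norm_num at hY
  have hdiv : ((5 : ℕ) : ℤ) ∣ cof ψ₀ := by
    have h := dvd_deg_sub (CSone y) ψ₀ (v := w ψ₀) (hw ψ₀)
    rw [hyb, hbig, D.deg (hExS ψ₀ hψ₀)] at h
    exact dvd_part (hbig ▸ hbcop) h hw0
  obtain ⟨j, hj⟩ := hdiv
  have hS2 : ∑ χ ∈ D.rest, cof χ ^ 2 = (Ex.E.card : ℤ) * cof ψ₀ ^ 2 + ∑ χ ∈ W, cof χ ^ 2 := by
    have h := htwo (fun χ => ((cof χ ^ 2 : ℤ) : ℂ))
    rw [Finset.sum_congr rfl (fun χ (hχ : χ ∈ Ex.E) => by rw [hdx χ hχ]), Finset.sum_const,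
      nsmul_eq_mul] at h
    apply Int.cast_injective (α := ℂ)
    push_cast at h ⊢
    exact h
  have R11 := D.R11
  rw [hS2, hj, hn3, ← hq, hqv] at R11
  norm_num at R11
  have hWe : 0 ≤ ∑ χ ∈ W, cof χ ^ 2 := Finset.sum_nonneg fun _ _ => sq_nonneg _
  have hjpos : 0 < j := by
    have := D.pos (hExS ψ₀ hψ₀); rw [hj] at this; omega
  have hj1 : j = 1 := by nlinarith
  subst hj1
  have hee0 : cof ψ₀ = 5 := by rw [hj]; norm_num
  have hWe2 : ∑ χ ∈ W, cof χ ^ 2 = 177 := by linarith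
  have hX := D.Rnorm hxF
  rw [htwo, Ex.sumSq x hxmem hx1,
    Finset.sum_congr rfl (g := fun χ => ((vv χ ^ 2 : ℤ) : ℂ)) (fun χ (hχ : χ ∈ W) => by
      rw [hvx χ (hWmem χ hχ).2 x hxmem hx1, map_intCast]; push_cast; ring),
    ← Int.cast_sum, hxa, hav, hn3, ← Int.cast_add,
    show ((13 : ℕ) : ℂ) - 2 = ((11 : ℤ) : ℂ) by norm_num, Int.cast_inj] at hX
  have hWv : ∑ χ ∈ W, vv χ ^ 2 = 2 + 2 * Ex.ε * Ex.z - 3 * Ex.z ^ 2 := by push_cast at hX; linarith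
  have hXY := D.Rcol x y hxF
  rw [if_neg (fun hc : IsConj x y => hxy' (by
    obtain ⟨c, hc⟩ := isConj_iff.1 hc
    rw [← hc, card_centralizer_conj])), st_fpf hS hyF, map_neg, map_one, htwo,
    Finset.sum_eq_zero (s := Ex.E) (fun χ hχ => by
      rw [hw χ y hymem hy1, hcy' χ hχ, hw0, Int.cast_zero, map_zero, mul_zero]), zero_add,
    Finset.sum_congr rfl (g := fun χ => ((vv χ * w χ : ℤ) : ℂ)) (fun χ (hχ : χ ∈ W) => by
      rw [hvx χ (hWmem χ hχ).2 x hxmem hx1, hw χ y hymem hy1, map_intCast]; push_cast; ring),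
    ← Int.cast_sum, show ((0 : ℂ) - 1 + -1) = ((-2 : ℤ) : ℂ) by norm_num, Int.cast_inj] at hXY
  have h1x := D.R1 hxF
  rw [htwo, Finset.sum_congr rfl (fun χ (hχ : χ ∈ Ex.E) => by rw [hdx χ hχ, hee0]),
    ← Finset.mul_sum, Ex.sum x hxmem hx1, hn3,
    Finset.sum_congr rfl (g := fun χ => ((cof χ * vv χ : ℤ) : ℂ))
      (fun χ (hχ : χ ∈ W) => by rw [hvx χ (hWmem χ hχ).2 x hxmem hx1]; push_cast; ring),
    ← Int.cast_sum, ← Int.cast_mul, ← Int.cast_add, ← hq, hqv,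
    show ((8 : ℕ) : ℂ) + 1 = ((9 : ℤ) : ℂ) by norm_num, Int.cast_inj] at h1x
  have h1y := D.R1 hyF
  rw [htwo, Finset.sum_eq_zero (s := Ex.E) (fun χ hχ => by
      rw [hw χ y hymem hy1, hcy' χ hχ, hw0, Int.cast_zero, mul_zero]), zero_add,
    Finset.sum_congr rfl (g := fun χ => ((cof χ * w χ : ℤ) : ℂ))
      (fun χ (hχ : χ ∈ W) => by rw [hw χ y hymem hy1]; push_cast; ring),
    ← Int.cast_sum, ← hq, hqv, show ((8 : ℕ) : ℂ) + 1 = ((9 : ℤ) : ℂ) by norm_num, Int.cast_inj] at h1y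
  obtain ⟨⟨U, hU, hU13⟩, ⟨V, hV, hV2⟩, hWdeg⟩ := rest_eight Ex.sign
    (fun χ hχ => D.pos (hWmem χ hχ).1)
    (fun χ hχ hv0 => by
      have h := dvd_deg_sub (CSone x) χ (v := vv χ) (hvx χ (hWmem χ hχ).2)
      rw [hxa, D.deg (hWmem χ hχ).1] at h
      have h' := dvd_part hacop h hv0
      rw [hav] at h'
      exact_mod_cast h')
    hWv hY hXY hWe2 (by linarith) h1y
  refine Setup.deg_list_of (D := D) (fun χ hχ => ?_) ⟨U, (hWmem U hU).1, by rw [hU13]; norm_num⟩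
    ⟨ψ₀, hExS ψ₀ hψ₀, by rw [hee0]; norm_num⟩ ⟨V, (hWmem V hV).1, by rw [hV2]; norm_num⟩
  by_cases h4 : χ ∈ Ex.E
  · exact Or.inr (Or.inl (by rw [hdx χ h4, hee0]; norm_num))
  rcases hWdeg χ (Finset.mem_sdiff.2 ⟨hχ, h4⟩) with h | h
  · exact Or.inl (by rw [h]; norm_num)
  · exact Or.inr (Or.inr (by rw [h]; norm_num))

include hS in
/-- The degrees of the irreducible characters. -/
theorem degrees : DegList F m := by
  obtain ⟨D⟩ := exists_setup hS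
  rcases Nat.lt_or_ge m 2 with hm | hm
  · have h1 := hS.one_le
    obtain rfl : m = 1 := by omega
    exact degList_eight hS D
  · exact degList_large hS hm D

end Cfsg.Agent.Block.SzDeg
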